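import Groth.Agent.AffCompl.SectionIdeal
import Groth.Agent.Lib.NegVanAmple
import Groth.Agent.Lib.ZarConn
import Groth.Agent.Lib.CurveOnSurf
import Groth.Agent.RefX.Normal
import Groth.Agent.SmoothReg.Scheme

/-!
# The zero set of a section of an ample module on a normal variety of dimension at least two is connected
-/

set_option autoImplicit false
set_option linter.style.haveILetI false
set_option linter.unusedSectionVars false
set_option backward.isDefEq.respectTransparency false
set_option backward.isDefEq.respectTransparency.types false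
set_option maxHeartbeats 1000000

universe u

open CategoryTheory CategoryTheory.Limits AlgebraicGeometry TopologicalSpace Opposite
open Groth.Agent.H23 Groth.Agent.H23.TrivBasic

noncomputable section

namespace Groth.Agent.AffCompl

attribute [local instance] PicMul.clMonoid

variable (k : Type u) [Field k] {X : Scheme.{u}} [X.Over (Spec (CommRingCat.of k))]
  [IsProper (X ↘ Spec (CommRingCat.of k))] [IsIntegral X]

include k in
/-- Depth at least two at the closed points. -/
theorem two_le_depth (hN : Pi1.IsNormalScheme X) (hdim : (2 : WithBot ℕ∞) ≤ topologicalKrullDim X) {x : X}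
    (hx : IsClosed ({x} : Set X)) :
    (2 : ℕ∞) ≤ LocCoh.depth (X.presheaf.stalk x) ((Coh.structureModule X).presheaf.stalk x) := by
  haveI := CurveCohLib.isNoetherian_of_proper (k := k) (X := X)
  obtain ⟨e⟩ := InvStalk.exists_stalk_equiv InvX.isInvertible_structureModule x
  haveI := (hN x).1
  haveI := (hN x).2
  show _ ≤ LocCoh.depth (X.presheaf.stalk x) ((DerSch.stalkFunctor X x).obj (Coh.structureModule X))
  rw [Hensel.depth_congr (R := X.presheaf.stalk x) e]
  refine RefX.two_le_depth_of_normal _ ?_
  rw [SmoothReg.ringKrullDim_stalk_closedPoint (X ↘ Spec (CommRingCat.of k)) hx]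
  exact hdim

include k in
/-- Functions on a closed subscheme extend when the first cohomology of its ideal vanishes. -/
theorem surjective_of_subsingleton (K : X.IdealSheafData)
    (h : Subsingleton (Coh.HH X (ClSub.idealMod K) 1)) :
    Function.Surjective (K.subschemeι.app ⊤).hom := by
  have hS := DivisorExt.ideal_shortExact K
  haveI : Subsingleton (Coh.HH X (ClSub.idealMod K) (0 + 1)) := h
  have hker : LinearMap.ker (PnCoh.Finite.deltaLin k hS 0) = ⊤ :=
    LinearMap.ker_eq_top.2 (LinearMap.ext fun z => Subsingleton.elim _ _)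
  rw [CurveCohLib.ker_deltaLin k hS 0] at hker
  intro b
  let eX := Sheaf.H.equiv₀ (Coh.toAb (Coh.structureModule X)) isTerminalTop
  let eK := Sheaf.H.equiv₀ (Coh.toAb (ClSub.quotMod K)) isTerminalTop
  obtain ⟨y, hy⟩ := LinearMap.range_eq_top.1 hker (eK.symm b)
  refine ⟨eX y, ?_⟩
  have h1 := Sheaf.H.equiv₀_naturality isTerminalTop ((QCoh.toAbFunctor X).map (ClSub.toSubscheme K)) y
  have h2 : Sheaf.H.map ((QCoh.toAbFunctor X).map (ClSub.toSubscheme K)) 0 y = eK.symm b := hy
  rw [h2] at h1
  exact h1.trans (eK.apply_symm_apply b)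

include k in
/-- The zero set of a section of an ample module is connected. -/
theorem isPreconnected_compl_locus (hN : Pi1.IsNormalScheme X) (hdim : (2 : WithBot ℕ∞) ≤ topologicalKrullDim X)
    {L : X.Modules} (hL : CohB1.IsAmple L) {s : Γ(L, ⊤)} (hs : s ≠ 0) :
    _root_.IsPreconnected (locus s : Set X)ᶜ := by
  haveI := CurveCohLib.isNoetherian_of_proper (k := k) (X := X)
  obtain ⟨M, hM, hLM⟩ := PicInv.exists_inverse hL.1
  obtain ⟨I, hI, hsupp, hinv⟩ := exists_ideal_of_section hL.1 hM hLM hs
  -- the class of the ideal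
  have hclI : PicF.cl (ClSub.idealMod I) = PicF.cl M := by
    have h1 : PicF.cl L * PicF.cl (ClSub.idealMod I) = 1 := PicMul.cl_eq_iff.2 hinv
    have h2 : PicF.cl L * PicF.cl M = 1 := PicMul.cl_eq_iff.2 hLM
    exact left_inv_eq_right_inv ((mul_comm _ _).trans h1) h2
  obtain ⟨n₀, hn₀⟩ := NegVanAmple.exists_vanishing (X ↘ Spec (CommRingCat.of k)) hL hLM
    (F := Coh.structureModule X) QCoh.isCoh_structureModule' 2 (fun x hx => two_le_depth k hN hdim hx) 1
    one_lt_two
  let m := n₀ + 1
  obtain ⟨-, hcl⟩ := H26.IdealCl.eff_and_cl_prod (Finset.univ : Finset (Fin 1)) (fun _ => I) (fun _ => hI)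
    (fun _ => m)
  simp only [Finset.univ_unique, Finset.prod_singleton] at hcl
  have hvan : Subsingleton (Coh.HH X (ClSub.idealMod (I ^ m)) 1) := by
    obtain ⟨e⟩ := PicMul.cl_eq_iff.1 (show PicF.cl (CohB1.tensorMod (Coh.structureModule X) (CohB1.tensorPow M m)) =
        PicF.cl (ClSub.idealMod (I ^ m)) by
      rw [hcl, hclI, PicMul.cl_tensor, ← PicMul.one_def, one_mul, PicMul.cl_tensorPow])
    exact QCoh.subsingleton_HH_of_iso e 1 (hn₀ m (Nat.le_succ n₀))
  have hsurj := surjective_of_subsingleton k (I ^ m) hvan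
  rw [← hsupp, ← Scheme.IdealSheafData.support_pow I m (Nat.succ_ne_zero n₀),
    ← Scheme.IdealSheafData.range_subschemeι]
  rcases isEmpty_or_nonempty (I ^ m).subscheme with hE | hne
  · rw [Set.range_eq_empty]
    exact isPreconnected_empty
  letI := (isField_of_universallyClosed k (X ↘ Spec (CommRingCat.of k))).toField
  haveI : Nontrivial Γ((I ^ m).subscheme, ⊤) := by
    haveI : Nonempty ((⊤ : (I ^ m).subscheme.Opens)) := ⟨⟨Classical.arbitrary _, trivial⟩⟩
    infer_instance
  haveI : IsLocalRing Γ((I ^ m).subscheme, ⊤) :=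
    IsLocalRing.of_surjective' ((I ^ m).subschemeι.app ⊤).hom hsurj
  haveI := ZarConn.connectedSpace_of_isLocalRing (I ^ m).subscheme
  exact (isPreconnected_range (I ^ m).subschemeι.continuous)

end Groth.Agent.AffCompl
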