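import Groth.Agent.Lib.SurfNegDef
import Groth.Agent.Lib.CurveOnSurf

/-!
# Curves on surfaces: existence through a point, finiteness inside a closed subset, and affine opens
-/

set_option autoImplicit false
set_option linter.style.haveILetI false
set_option linter.unusedSectionVars false
set_option backward.isDefEq.respectTransparency false
set_option backward.isDefEq.respectTransparency.types false
set_option maxHeartbeats 1000000

universe u

open CategoryTheory CategoryTheory.Limits AlgebraicGeometry TopologicalSpace Opposite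
open Groth.Agent.H23 Groth.Agent.H23.TrivBasic

noncomputable section

namespace Groth.Agent.AffCompl

attribute [local instance] PicMul.clMonoid

variable (k : Type u) [Field k] {X : Scheme.{u}} [X.Over (Spec (CommRingCat.of k))]
  [IsProper (X ↘ Spec (CommRingCat.of k))] [IsIntegral X]

theorem deg_generic (hdim : topologicalKrullDim X = 2) :
    VarDim.deg (X ↘ Spec (CommRingCat.of k)) (genericPoint X) = 2 := by
  have h : (VarDim.deg (X ↘ Spec (CommRingCat.of k)) (genericPoint X) : WithBot ℕ∞) = 2 :=
    (VarDim.topologicalKrullDim_eq_deg_genericPoint (X ↘ Spec (CommRingCat.of k))).symm.trans hdim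
  exact_mod_cast h

include k in
/-- Through a point where a nonzero function vanishes there is a curve on which it vanishes. -/
theorem exists_curve_point (hdim : topologicalKrullDim X = 2) {U : X.Opens} (hU : IsAffineOpen U) {x : X} (hxU : x ∈ U)
    {g : Γ(X, U)} (hg0 : g ≠ 0) (hgx : x ∉ X.basicOpen g) :
    ∃ η : X, η ∈ U ∧ η ∉ X.basicOpen g ∧ η ⤳ x ∧ VarDim.deg (X ↘ Spec (CommRingCat.of k)) η = 1 := by
  let f := X ↘ Spec (CommRingCat.of k)
  haveI := CurveCohLib.isNoetherian_of_proper (k := k) (X := X)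
  obtain ⟨q, rfl⟩ := VarDim.exists_fromSpec_eq hU hxU
  have hgq : g ∈ q.asIdeal := by
    by_contra hgq
    have h' : q ∈ hU.fromSpec ⁻¹ᵁ X.basicOpen g := by
      rw [hU.fromSpec_preimage_basicOpen]
      exact hgq
    exact hgx h'
  obtain ⟨P, hP, hPq⟩ := Ideal.exists_minimalPrimes_le ((Ideal.span_singleton_le_iff_mem _).2 hgq)
  haveI hPp := hP.1.1
  haveI : Nonempty U := ⟨⟨_, hxU⟩⟩
  haveI : IsNoetherianRing Γ(X, U) := IsLocallyNoetherian.component_noetherian ⟨U, hU⟩
  haveI : (Ideal.span {g}).IsPrincipal := ⟨⟨g, rfl⟩⟩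
  have hP1 : P.height ≤ 1 := Ideal.height_le_one_of_isPrincipal_of_mem_minimalPrimes (Ideal.span {g}) P hP
  let p : PrimeSpectrum Γ(X, U) := ⟨P, hPp⟩
  let η := hU.fromSpec p
  have hgP : g ∈ P := hP.1.2 (Ideal.mem_span_singleton_self g)
  have hηg : η ∉ X.basicOpen g := fun h => by
    have h3 : p ∈ hU.fromSpec ⁻¹ᵁ X.basicOpen g := h
    rw [hU.fromSpec_preimage_basicOpen] at h3
    exact h3 hgP
  have hgen : genericPoint X ≠ η := fun h => by
    obtain ⟨z, hz⟩ := (Opens.ne_bot_iff_nonempty (X.basicOpen g)).1 fun hb =>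
      hg0 (AlgebraicGeometry.eq_zero_of_basicOpen_eq_bot g hb)
    exact hηg (h ▸ (genericPoint_specializes z).mem_open (X.basicOpen g).isOpen hz)
  have hsp : η ⤳ hU.fromSpec q := (VarDim.fromSpec_specializes_iff hU p q).2 hPq
  obtain ⟨b, hb, ⟨ξ, hξ, hξd⟩, hle⟩ := VarDim.exists_deg_add_stalk f η
  have hb1 : b ≤ 1 := by
    rw [VarDim.ringKrullDim_stalk_fromSpec hU, ← PrimeSpectrum.height_eq_orderHeight] at hb
    have h : P.height = (b : ℕ∞) := WithBot.coe_inj.1 hb
    rw [h] at hP1
    exact_mod_cast hP1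
  have h2 : VarDim.deg f (genericPoint X) = 2 := deg_generic k hdim
  have hup := hle (genericPoint X) (genericPoint_specializes η)
  have hlt : VarDim.deg f η < 2 := by
    by_contra hcon
    exact hgen (VarDim.eq_of_specializes_of_deg_le f (genericPoint_specializes η) (by omega))
  exact ⟨η, VarDim.fromSpec_mem hU p, hηg, hsp, by show VarDim.deg f η = 1; omega⟩

include k in
/-- Through a zero of a nonzero section there is a curve of zeros. -/
theorem exists_zero_curve_point (hdim : topologicalKrullDim X = 2) {L : X.Modules} (hL : PicF.IsInvertible L)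
    {s : Γ(L, ⊤)} (hs : s ≠ 0) {x : X} (hx : x ∉ locus s) :
    ∃ η : X, η ∉ locus s ∧ η ⤳ x ∧ VarDim.deg (X ↘ Spec (CommRingCat.of k)) η = 1 := by
  obtain ⟨U₀, hxU₀, ε₀, hε₀⟩ := InvX.exists_frame hL x
  obtain ⟨U, hU, hxU, hUU₀⟩ := exists_isAffineOpen_mem_and_subset (x := x) (U := U₀) hxU₀
  replace hUU₀ : U ≤ U₀ := hUU₀
  have hε := hε₀.res hUU₀
  obtain ⟨g, hg⟩ := hε.exists_coord le_rfl (AModX.res L (le_top : U ≤ ⊤) s)
  rw [AModX.res_self] at hg
  have hloc := locus_eq_basicOpen hε hg
  have hg0 : g ≠ 0 := fun h0 => by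
    obtain ⟨z, hz⟩ := (Opens.ne_bot_iff_nonempty _).1 (locus_ne_bot hL hs)
    have hη := (genericPoint_specializes z).mem_open (locus s).isOpen hz
    have hηU := (genericPoint_specializes x).mem_open U.isOpen hxU
    have h := hloc.le ⟨hη, hηU⟩
    rw [h0, Scheme.basicOpen_zero] at h
    exact h
  obtain ⟨η, hηU, hηg, hsp, hd⟩ := exists_curve_point k hdim hU hxU hg0 fun h => hx (hloc.ge h).1
  exact ⟨η, fun h => hηg (hloc.le ⟨h, hηU⟩), hsp, hd⟩

omit [X.Over (Spec (CommRingCat.of k))] [IsProper (X ↘ Spec (CommRingCat.of k))] in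
/-- The reduced curve with a given generic point. -/
def curveOf (η : X) : X.IdealSheafData :=
  Scheme.IdealSheafData.vanishingIdeal ⟨closure {η}, isClosed_closure⟩

omit [X.Over (Spec (CommRingCat.of k))] [IsProper (X ↘ Spec (CommRingCat.of k))] in
theorem coe_support_curveOf (η : X) : ((curveOf η).support : Set X) = closure {η} :=
  Scheme.IdealSheafData.coe_support_vanishingIdeal _

omit [X.Over (Spec (CommRingCat.of k))] [IsProper (X ↘ Spec (CommRingCat.of k))] in
theorem isIntegral_curveOf (η : X) : IsIntegral (curveOf η).subscheme := by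
  let Z : Closeds X := ⟨closure {η}, isClosed_closure⟩
  let J := Scheme.IdealSheafData.vanishingIdeal Z
  have hrange : Set.range J.subschemeι = closure {η} := RedSub.range_vanishingIdeal Z
  haveI : IrreducibleSpace J.subscheme := by
    haveI : IrreducibleSpace (Set.range J.subschemeι) := Subtype.irreducibleSpace (by
      rw [hrange]
      exact isIrreducible_singleton.closure)
    let e := J.subschemeι.isClosedEmbedding.isEmbedding.toHomeomorph
    exact e.symm.surjective.irreducibleSpace e.symm.continuous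
  haveI : IsReduced J.subscheme := RedSub.isReduced_vanishingIdeal Z
  exact isIntegral_of_irreducibleSpace_of_isReduced J.subscheme

theorem dim_curveOf {η : X} (hη : VarDim.deg (X ↘ Spec (CommRingCat.of k)) η = 1) :
    topologicalKrullDim ((curveOf η).support : Set X) = 1 := by
  let f := X ↘ Spec (CommRingCat.of k)
  let J := curveOf η
  haveI := isIntegral_curveOf η
  have hrange : Set.range J.subschemeι = closure {η} := RedSub.range_vanishingIdeal _
  have hι : J.subschemeι (genericPoint J.subscheme) = η := by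
    refine (Specializes.antisymm ?_ ?_).eq
    · obtain ⟨z, hz⟩ : η ∈ Set.range J.subschemeι := hrange ▸ subset_closure rfl
      rw [← hz]
      exact (genericPoint_specializes z).map J.subschemeι.continuous
    · have h : J.subschemeι (genericPoint J.subscheme) ∈ closure {η} := hrange ▸ ⟨_, rfl⟩
      exact specializes_iff_mem_closure.2 h
  have h3 := VarDim.tdeg_comp J.subschemeι f (genericPoint J.subscheme)
  rw [VarDim.rdeg_preimmersion, add_zero, ← VarDim.deg_eq_tdeg, ← VarDim.deg_eq_tdeg, hι, hη] at h3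
  have h4 : topologicalKrullDim J.subscheme = 1 := by
    rw [VarDim.topologicalKrullDim_eq_deg_genericPoint (J.subschemeι ≫ f),
      show VarDim.deg (J.subschemeι ≫ f) (genericPoint J.subscheme) = 1 from mod_cast h3]
    rfl
  rw [← IsHomeomorph.topologicalKrullDim_eq _
    ((J.subschemeι.isEmbedding.toHomeomorph).trans (Homeomorph.setCongr J.range_subschemeι)).isHomeomorph]
  exact h4

variable (hreg : ∀ x : X, IsRegularLocalRing (X.presheaf.stalk x))

include hreg in
theorem isInvertible_curveOf (hdim : topologicalKrullDim X = 2) {η : X}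
    (hη : VarDim.deg (X ↘ Spec (CommRingCat.of k)) η = 1) : PicF.IsInvertible (ClSub.idealMod (curveOf η)) := by
  let J := curveOf η
  haveI := isIntegral_curveOf η
  have hd : topologicalKrullDim J.subscheme = 1 := by
    rw [IsHomeomorph.topologicalKrullDim_eq _
      ((J.subschemeι.isEmbedding.toHomeomorph).trans (Homeomorph.setCongr J.range_subschemeι)).isHomeomorph]
    exact dim_curveOf k hη
  have h := CurveOnSurf.isInvertible_ideal (X ↘ Spec (CommRingCat.of k)) hdim hreg J.subschemeι hd
  rwa [Scheme.IdealSheafData.ker_subschemeι] at h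

include k in
/-- A proper closed subset contains finitely many curves. -/
theorem finite_deg_one (hdim : topologicalKrullDim X = 2) {Z : Set X} (hZ : IsClosed Z) (hgen : genericPoint X ∉ Z) :
    {η : X | η ∈ Z ∧ VarDim.deg (X ↘ Spec (CommRingCat.of k)) η = 1}.Finite := by
  let f := X ↘ Spec (CommRingCat.of k)
  haveI := CurveCohLib.isNoetherian_of_proper (k := k) (X := X)
  have hfin : (irreducibleComponents Z).Finite := NoetherianSpace.finite_irreducibleComponents
  let c : {η : X | η ∈ Z ∧ VarDim.deg f η = 1} → Set Z := fun η => closure {⟨η.1, η.2.1⟩}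
  have hc : ∀ η, c η ∈ irreducibleComponents Z := by
    rintro ⟨η, hη, hd⟩
    refine ⟨isIrreducible_singleton.closure, fun T hT hle => ?_⟩
    let T' := closure T
    have hT' : IsIrreducible T' := hT.closure
    have himg : IsIrreducible (closure (Subtype.val '' T')) := (hT'.image _ continuous_subtype_val.continuousOn).closure
    obtain ⟨ξ, hξ⟩ : ∃ ξ : X, IsGenericPoint ξ (closure (Subtype.val '' T')) :=
      QuasiSober.sober himg isClosed_closure
    have hξZ : ξ ∈ Z := closure_minimal (Subtype.coe_image_subset Z T') hZ hξ.mem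
    have hξη : ξ ⤳ η :=
      hξ.specializes (subset_closure ⟨⟨η, hη⟩, subset_closure (hle (subset_closure rfl)), rfl⟩)
    have hlt : VarDim.deg f ξ < 2 := by
      by_contra hcon
      exact hgen (VarDim.eq_of_specializes_of_deg_le f (genericPoint_specializes ξ)
        (by rw [deg_generic k hdim]; omega) ▸ hξZ)
    have hge := VarDim.deg_le_of_specializes f hξη
    have heq : ξ = η := VarDim.eq_of_specializes_of_deg_le f hξη (by omega)
    intro z hz
    have hz' : (z : X) ∈ closure ({ξ} : Set X) := hξ.def.symm ▸ subset_closure ⟨z, subset_closure hz, rfl⟩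
    rw [heq] at hz'
    rw [closure_subtype, Set.image_singleton]
    exact hz'
  have hinj : Function.Injective c := by
    rintro ⟨a, ha, hda⟩ ⟨b, hb, hdb⟩ h
    have h1 : (⟨a, ha⟩ : Z) ∈ closure ({⟨b, hb⟩} : Set Z) := (Set.ext_iff.1 h ⟨a, ha⟩).1 (subset_closure rfl)
    rw [closure_subtype, Set.image_singleton, ← specializes_iff_mem_closure] at h1
    exact Subtype.ext (VarDim.eq_of_specializes_of_deg_le f h1 (hdb.trans hda.symm).le).symm
  haveI : Finite {η : X | η ∈ Z ∧ VarDim.deg f η = 1} :=
    haveI := hfin.to_subtype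
    Finite.of_injective (fun η => (⟨c η, hc η⟩ : irreducibleComponents Z))
      fun a b h => hinj (congrArg Subtype.val h)
  exact Set.toFinite _

include k in
/-- Through a closed point there is a curve outside a finite list. -/
theorem exists_avoiding (hdim : topologicalKrullDim X = 2) {x : X} (hx : IsClosed ({x} : Set X))
    {F : Set X} (hF : F.Finite) (hFd : ∀ η ∈ F, VarDim.deg (X ↘ Spec (CommRingCat.of k)) η = 1) :
    ∃ η : X, η ∉ F ∧ η ⤳ x ∧ VarDim.deg (X ↘ Spec (CommRingCat.of k)) η = 1 := by
  classical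
  let f := X ↘ Spec (CommRingCat.of k)
  have hx0 : VarDim.deg f x = 0 := DiagReg.deg_eq_zero f hx
  obtain ⟨U, hU, hxU, -⟩ := exists_isAffineOpen_mem_and_subset (x := x) (U := ⊤) trivial
  haveI : Nonempty U := ⟨⟨x, hxU⟩⟩
  obtain ⟨q, rfl⟩ := VarDim.exists_fromSpec_eq hU hxU
  let S : Set (PrimeSpectrum Γ(X, U)) := hU.fromSpec ⁻¹' F
  have hS : S.Finite := hF.preimage hU.fromSpec.isOpenEmbedding.injective.injOn
  have hsub : ¬ ((q.asIdeal : Set Γ(X, U)) ⊆ ⋃ P ∈ insert (⊥ : Ideal Γ(X, U)) (PrimeSpectrum.asIdeal '' S), (P : Set Γ(X, U))) := by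
    intro hsub
    obtain ⟨P, hP, hle⟩ := (Ideal.subset_union_prime_finite (f := fun P : Ideal Γ(X, U) => P)
      ((hS.image _).insert _) ⊥ ⊥ (fun P hP hne _ => by
        rcases hP with rfl | ⟨p, -, rfl⟩
        · exact absurd rfl hne
        · exact p.isPrime)).1 hsub
    rcases hP with rfl | ⟨p, hp, rfl⟩
    · have hgen : hU.fromSpec q = genericPoint X := by
        obtain ⟨g, hg⟩ := VarDim.exists_fromSpec_eq hU ((genericPoint_specializes (hU.fromSpec q)).mem_open U.isOpen hxU)
        have hsp : hU.fromSpec q ⤳ hU.fromSpec g := (VarDim.fromSpec_specializes_iff hU q g).2 fun a ha => by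
          rw [show a = 0 from hle ha]
          exact zero_mem _
        rw [hg] at hsp
        exact (hsp.antisymm (genericPoint_specializes _)).eq
      rw [hgen] at hx0
      exact absurd ((deg_generic k hdim).symm.trans hx0) (by decide)
    · have hsp : hU.fromSpec q ⤳ hU.fromSpec p := (VarDim.fromSpec_specializes_iff hU q p).2 hle
      have h1 : VarDim.deg f (hU.fromSpec p) = 1 := hFd _ hp
      have h2 := VarDim.deg_le_of_specializes f hsp
      omega
  obtain ⟨a, haq, ha⟩ := Set.not_subset.1 hsub
  have ha0 : a ≠ 0 := fun h0 => ha (Set.mem_biUnion (Set.mem_insert _ _) (by simp [h0]))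
  have hxa : hU.fromSpec q ∉ X.basicOpen a := fun h => by
    have h' : q ∈ hU.fromSpec ⁻¹ᵁ X.basicOpen a := h
    rw [hU.fromSpec_preimage_basicOpen] at h'
    exact h' haq
  obtain ⟨η, hηU, hηa, hsp, hd⟩ := exists_curve_point k hdim hU hxU ha0 hxa
  refine ⟨η, fun hηF => ?_, hsp, hd⟩
  obtain ⟨p, rfl⟩ := VarDim.exists_fromSpec_eq hU hηU
  refine hηa ?_
  show p ∈ hU.fromSpec ⁻¹ᵁ X.basicOpen a
  rw [hU.fromSpec_preimage_basicOpen]
  exact fun hap => ha (Set.mem_biUnion (Set.mem_insert_of_mem _ ⟨p, hηF, rfl⟩) hap)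

omit [IsIntegral X] in
include k in
/-- A positive dimensional integral closed subscheme is not contained in an affine open. -/
theorem not_subset_affine {C : Scheme.{u}} (i : C ⟶ X) [IsClosedImmersion i] [IsIntegral C]
    (hC : topologicalKrullDim C ≠ 0) {U : X.Opens} (hU : IsAffineOpen U) : ¬ Set.range i ⊆ (U : Set X) := by
  intro hsub
  haveI : X.IsSeparated := ⟨by
    rw [← Limits.terminal.comp_from (X ↘ Spec (CommRingCat.of k))]
    infer_instance⟩
  let j : C ⟶ U := IsOpenImmersion.lift U.ι i (by rwa [Scheme.Opens.range_ι])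
  have hj : j ≫ U.ι = i := IsOpenImmersion.lift_fac _ _ _
  haveI : IsClosedImmersion (j ≫ U.ι) := hj ▸ inferInstance
  haveI : IsClosedImmersion j := IsClosedImmersion.of_comp j U.ι
  haveI : IsAffine U := hU
  haveI : IsAffine C := isAffine_of_isAffineHom j
  haveI : IsProper (i ≫ (X ↘ Spec (CommRingCat.of k))) := inferInstance
  haveI : IsFinite (i ≫ (X ↘ Spec (CommRingCat.of k))) :=
    IsFinite.iff_isProper_and_isAffineHom.2 ⟨inferInstance, inferInstance⟩
  haveI : DiscreteTopology C := by
    haveI : Finite C := Finite.of_finite_univ (by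
      have h := (i ≫ (X ↘ Spec (CommRingCat.of k))).finite_preimage_singleton (IsLocalRing.closedPoint k)
      exact h.subset fun z _ => (Subsingleton.elim _ _ :
        (i ≫ (X ↘ Spec (CommRingCat.of k))) z = IsLocalRing.closedPoint k))
    haveI : JacobsonSpace C := LocallyOfFiniteType.jacobsonSpace (i ≫ (X ↘ Spec (CommRingCat.of k)))
    infer_instance
  exact hC (le_antisymm (topologicalKrullDim_zero_of_discreteTopology _)
    (by
      haveI : Nonempty (TopologicalSpace.IrreducibleCloseds C) := ⟨⟨_, IrreducibleSpace.isIrreducible_univ _, isClosed_univ⟩⟩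
      exact Order.krullDim_nonneg))

end Groth.Agent.AffCompl
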