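import Groth.Agent.AffCompl.Curves
import Groth.Agent.Nakai.SurfProj

/-!
# Degrees of invertible modules on curves of a surface, and a positivity improvement for effective combinations
-/

set_option autoImplicit false
set_option linter.style.haveILetI false
set_option linter.unusedSectionVars false
set_option backward.isDefEq.respectTransparency false
set_option backward.isDefEq.respectTransparency.types false
set_option maxHeartbeats 1000000

universe u

open CategoryTheory CategoryTheory.Limits AlgebraicGeometry TopologicalSpace Opposite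
open Groth.Agent.H23 Groth.Agent.H23.TrivBasic

noncomputable section

namespace Groth.Agent.AffCompl

attribute [local instance] PicMul.clMonoid

/-- An effective combination can be made positive on every member, unless a set closed under adjacency has
degree zero. -/
theorem exists_pos {ι : Type} [Fintype ι] (G : ι → ι → ℤ) (hoff : ∀ i j, i ≠ j → 0 ≤ G i j)
    (m : ι → ℕ) (hm : ∀ i, 0 ≤ ∑ j, (m j : ℤ) * G i j)
    (hS : ∀ S : Finset ι, S.Nonempty → (∀ l ∈ S, ∀ j ∉ S, G l j = 0) → ∃ l ∈ S, 0 < ∑ j, (m j : ℤ) * G l j) :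
    ∃ d : ι → ℕ, (∀ j, 0 < d j) ∧ ∀ i, 0 < ∑ j, (d j : ℤ) * G i j := by
  classical
  let F : (ι → ℕ) → ι → ℤ := fun d i => ∑ j, (d j : ℤ) * G i j
  let P : (ι → ℕ) → Finset ι := fun d => Finset.univ.filter fun i => 0 < F d i
  suffices h : ∀ n, ∀ d : ι → ℕ, (∀ i, 0 ≤ F d i) → P m ⊆ P d → Fintype.card ι - (P d).card ≤ n →
      ∃ d' : ι → ℕ, ∀ i, 0 < F d' i by
    obtain ⟨d', hd'⟩ := h _ m hm subset_rfl le_rfl
    -- make every coefficient positive
    let M : ℕ := ∑ i, (F (fun _ => 1) i).natAbs + 1
    refine ⟨fun j => M * d' j + 1, fun j => Nat.succ_pos _, fun i => ?_⟩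
    have e : ∑ j, ((M * d' j + 1 : ℕ) : ℤ) * G i j = M * F d' i + F (fun _ => 1) i := by
      simp only [F, Finset.mul_sum, ← Finset.sum_add_distrib]
      exact Finset.sum_congr rfl fun j _ => by push_cast; ring
    rw [e]
    have h1 : ((F (fun _ => 1) i).natAbs : ℤ) + 1 ≤ M := by
      have := Finset.single_le_sum (f := fun i => (F (fun _ => 1) i).natAbs) (fun _ _ => Nat.zero_le _) (Finset.mem_univ i)
      exact_mod_cast Nat.succ_le_succ this
    have h2 : (M : ℤ) ≤ M * F d' i := le_mul_of_one_le_right (by positivity) (hd' i)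
    omega
  intro n
  induction n with
  | zero =>
    intro d _ _ hn
    refine ⟨d, fun i => ?_⟩
    have h1 : P d = Finset.univ := Finset.eq_univ_of_card _ (le_antisymm (Finset.card_le_univ _) (by omega))
    exact (Finset.mem_filter.1 (h1.ge (Finset.mem_univ i))).2
  | succ n ih =>
    intro d hd hPd hn
    by_cases hall : ∀ i, 0 < F d i
    · exact ⟨d, hall⟩
    simp only [not_forall, not_lt] at hall
    obtain ⟨i₀, hi₀⟩ := hall
    obtain ⟨l, hl, j, hj, hlj⟩ : ∃ l ∉ P d, ∃ j ∈ P d, G l j ≠ 0 := by
      by_contra hcon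
      simp only [not_exists, not_and, not_not] at hcon
      obtain ⟨l, hl, hpos⟩ := hS (P d)ᶜ ⟨i₀, Finset.mem_compl.2 fun h => ((Finset.mem_filter.1 h).2).not_ge hi₀⟩ fun l hl j hj =>
        hcon l (Finset.mem_compl.1 hl) j (by simpa using hj)
      exact Finset.mem_compl.1 hl (hPd (Finset.mem_filter.2 ⟨Finset.mem_univ _, hpos⟩))
    have hjp : 0 < F d j := (Finset.mem_filter.1 hj).2
    have hne : l ≠ j := fun e => hl (e ▸ hj)
    let A : ℕ := (G j j).natAbs + 1
    let d' : ι → ℕ := fun i => A * d i + if i = j then 1 else 0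
    have hF : ∀ i, F d' i = A * F d i + G i j := fun i => by
      simp only [F, d', Nat.cast_add, Nat.cast_mul, add_mul, Finset.sum_add_distrib, mul_assoc, ← Finset.mul_sum,
        Nat.cast_ite, Nat.cast_one, Nat.cast_zero, ite_mul, one_mul, zero_mul, Finset.sum_ite_eq', Finset.mem_univ,
        if_true]
    have hpos : ∀ i, 0 < F d i → 0 < F d' i := fun i hi => by
      rw [hF]
      have h2 : (A : ℤ) ≤ A * F d i := le_mul_of_one_le_right (by positivity) hi
      rcases eq_or_ne i j with rfl | hij
      · simp only [A, Nat.cast_add, Nat.cast_one, Int.natCast_natAbs] at h2 ⊢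
        linarith [neg_abs_le (G i i)]
      · have h3 : (1 : ℤ) ≤ A := by simp [A]
        linarith [hoff i j hij]
    have hd' : ∀ i, 0 ≤ F d' i := fun i => by
      rcases (hd i).eq_or_lt with h0 | h0
      · rw [hF, ← h0, mul_zero, zero_add]
        exact hoff i j fun e => absurd (e ▸ h0 : (0 : ℤ) = F d j) hjp.ne
      · exact (hpos i h0).le
    have hsub : P d ⊆ P d' := fun i hi => by
      simp only [P, Finset.mem_filter, Finset.mem_univ, true_and] at hi ⊢
      exact hpos i hi
    have hl' : l ∈ P d' := by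
      simp only [P, Finset.mem_filter, Finset.mem_univ, true_and] at hl ⊢
      have h0 : F d l = 0 := le_antisymm (not_lt.1 hl) (hd l)
      rw [hF, h0, mul_zero, zero_add]
      exact lt_of_le_of_ne (hoff l j hne) (Ne.symm hlj)
    refine ih d' hd' (hPd.trans hsub) ?_
    have hlt := Finset.card_lt_card (Finset.ssubset_iff_of_subset hsub |>.2 ⟨l, hl', hl⟩)
    omega

variable (k : Type u) [Field k] {X : Scheme.{u}} [X.Over (Spec (CommRingCat.of k))]
  [IsProper (X ↘ Spec (CommRingCat.of k))] [IsIntegral X]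

/-- The degree of an invertible module on the curve with generic point `η`. -/
def dg (η : X) (L : X.Modules) : ℤ := -SurfPairing.pair k (PicF.cl (ClSub.idealMod (curveOf η))) (PicF.cl L)

variable (hdim : topologicalKrullDim X = 2) (hreg : ∀ x : X, IsRegularLocalRing (X.presheaf.stalk x))
  {η : X} (hη : VarDim.deg (X ↘ Spec (CommRingCat.of k)) η = 1) {L : X.Modules} (hL : PicF.IsInvertible L)

include hdim hreg hη hL

theorem dg_eq_deg :
    letI : (curveOf η).subscheme.Over (Spec (CommRingCat.of k)) :=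
      ⟨(curveOf η).subschemeι ≫ (X ↘ (Spec (CommRingCat.of k)))⟩
    dg k η L = Curv2.deg k (curveOf η).subscheme ((Scheme.Modules.pullback (curveOf η).subschemeι).obj L) 1 := by
  haveI := isIntegral_curveOf η
  have h := CurveOnSurf.pair_ideal (k := k) (curveOf η).subschemeι hL
    (by rw [Scheme.IdealSheafData.ker_subschemeι]; exact isInvertible_curveOf k hreg hdim hη)
  rw [Scheme.IdealSheafData.ker_subschemeι] at h
  rw [dg, h, neg_neg]

/-- A section which does not vanish on the curve gives nonnegative degree. -/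
theorem dg_nonneg {s : Γ(L, ⊤)} (hs : η ∈ locus s) : 0 ≤ dg k η L := by
  haveI := isIntegral_curveOf η
  rw [dg_eq_deg k hdim hreg hη hL]
  obtain ⟨c, hc⟩ : η ∈ Set.range (curveOf η).subschemeι := by
    rw [Scheme.IdealSheafData.range_subschemeι, coe_support_curveOf]
    exact subset_closure rfl
  refine SurfNegDef.deg_nonneg_of_locus (k := k) (curveOf η).subschemeι ?_ hL c (hc ▸ hs)
  rw [IsHomeomorph.topologicalKrullDim_eq _ (((curveOf η).subschemeι.isEmbedding.toHomeomorph).trans
    (Homeomorph.setCongr (curveOf η).range_subschemeι)).isHomeomorph, dim_curveOf k hη]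

/-- A section vanishing somewhere but not everywhere on the curve gives positive degree. -/
theorem dg_pos {s : Γ(L, ⊤)} (hs : η ∈ locus s) {x : X} (hx : η ⤳ x) (hxs : x ∉ locus s) : 0 < dg k η L := by
  haveI := isIntegral_curveOf η
  rw [dg_eq_deg k hdim hreg hη hL]
  let i := (curveOf η).subschemeι
  letI : (curveOf η).subscheme.Over (Spec (CommRingCat.of k)) := ⟨i ≫ (X ↘ (Spec (CommRingCat.of k)))⟩
  haveI : IsProper ((curveOf η).subscheme ↘ Spec (CommRingCat.of k)) :=
    show IsProper (i ≫ (X ↘ Spec (CommRingCat.of k))) from inferInstance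
  have hr : Set.range i = closure {η} := by rw [Scheme.IdealSheafData.range_subschemeι, coe_support_curveOf]
  obtain ⟨c, hc⟩ : η ∈ Set.range i := hr.symm ▸ subset_closure rfl
  obtain ⟨d, hd⟩ : x ∈ Set.range i := hr.symm ▸ specializes_iff_mem_closure.1 hx
  let σ : Γ((Scheme.Modules.pullback i).obj L, ⊤) := InvX.pullElt i s
  have hloc : locus σ = i ⁻¹ᵁ locus s := locus_pullElt hL i s
  have hσ0 : σ ≠ 0 := Nakai.ne_zero_of_mem_locus (x := c) (hloc.ge (show i c ∈ locus s by rw [hc]; exact hs))
  have hne : locus σ ≠ ⊤ := fun h => hxs (hd ▸ show i d ∈ locus s from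
    (show d ∈ i ⁻¹ᵁ locus s from hloc.le (h.ge trivial)))
  refine CurveAmple.deg_pos_of_section (k := k) ?_ (PicClLib.isInvertible_pullback i hL) hσ0 hne
  rw [IsHomeomorph.topologicalKrullDim_eq _ ((i.isEmbedding.toHomeomorph).trans
    (Homeomorph.setCongr (curveOf η).range_subschemeι)).isHomeomorph, dim_curveOf k hη]

/-- A section without zeros on the curve gives degree zero. -/
theorem dg_eq_zero {s : Γ(L, ⊤)} (hs : closure ({η} : Set X) ⊆ locus s) : dg k η L = 0 := by
  haveI := isIntegral_curveOf η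
  rw [dg_eq_deg k hdim hreg hη hL]
  let i := (curveOf η).subschemeι
  letI : (curveOf η).subscheme.Over (Spec (CommRingCat.of k)) := ⟨i ≫ (X ↘ (Spec (CommRingCat.of k)))⟩
  haveI : IsProper ((curveOf η).subscheme ↘ Spec (CommRingCat.of k)) :=
    show IsProper (i ≫ (X ↘ Spec (CommRingCat.of k))) from inferInstance
  have hr : Set.range i = closure {η} := by rw [Scheme.IdealSheafData.range_subschemeι, coe_support_curveOf]
  let σ : Γ((Scheme.Modules.pullback i).obj L, ⊤) := InvX.pullElt i s
  have hloc : locus σ = ⊤ := by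
    rw [show locus σ = i ⁻¹ᵁ locus s from locus_pullElt hL i s]
    exact top_le_iff.1 fun c _ => hs (hr ▸ ⟨c, rfl⟩)
  obtain ⟨e⟩ := triv_of_frame (locus_eq_top_iff.1 hloc)
  unfold Curv2.deg
  rw [CurveCohLib.euler_congr (k := k) e]
  simp

end Groth.Agent.AffCompl
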