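import Groth.Agent.H26.InterSymm
import Groth.Agent.Lib.CurveAmple
import Groth.Agent.Lib.CurveOnSurf
import Groth.Agent.Lib.SurfPairing
import Groth.Agent.LC.Sop
import Groth.Agent.VarDim.Top

/-!
# The intersection number of two effective divisors without common component on a Cohen-Macaulay surface
-/

set_option autoImplicit false
set_option linter.style.haveILetI false
set_option linter.unusedSectionVars false
set_option backward.isDefEq.respectTransparency false
set_option backward.isDefEq.respectTransparency.types false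
set_option maxHeartbeats 1000000

universe u

open CategoryTheory CategoryTheory.Limits AlgebraicGeometry TopologicalSpace Opposite
open Groth.Agent.H23

noncomputable section

namespace Groth.Agent.InterFinite

attribute [local instance] PicMul.clMonoid

/-- The points of a finite closed set of a Jacobson space are closed. -/
theorem isClosed_singleton_of_finite {T : Type*} [TopologicalSpace T] [JacobsonSpace T] {Z : Set T}
    (hZ : IsClosed Z) (hf : Z.Finite) {x : T} (hx : x ∈ Z) : IsClosed ({x} : Set T) := by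
  have h1 : IsClosed (Z ∩ closedPoints T) := by
    rw [← Set.biUnion_of_singleton (Z ∩ closedPoints T)]
    exact Set.Finite.isClosed_biUnion (hf.inter_of_left _) fun y hy => hy.2
  have h2 := closure_inter_closedPoints hZ
  rw [h1.closure_eq] at h2
  exact (h2.ge hx).2

variable {k : Type u} [Field k] {X : Scheme.{u}} (f : X ⟶ Spec (CommRingCat.of k)) [LocallyOfFiniteType f]
  (hdim : ∀ Z ∈ irreducibleComponents (X : Type u), topologicalKrullDim Z = 2)

include hdim in
/-- The generic point of the component through a point has degree two. -/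
theorem exists_generic (x : X) : ∃ η : X, η ⤳ x ∧ VarDim.deg f η = 2 := by
  obtain ⟨η, hη⟩ := QuasiSober.sober (isIrreducible_irreducibleComponent (x := x)) isClosed_irreducibleComponent
  refine ⟨η, hη.specializes mem_irreducibleComponent, ?_⟩
  have h := VarDim.topologicalKrullDim_closure_singleton f η
  rw [show closure ({η} : Set X) = irreducibleComponent x from hη.def,
    hdim _ (irreducibleComponent_mem_irreducibleComponents x)] at h
  exact (Nat.cast_inj (R := WithBot ℕ∞)).1 h.symm

include hdim in
theorem deg_le_two (x : X) : VarDim.deg f x ≤ 2 := by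
  obtain ⟨η, hη, hd⟩ := exists_generic f hdim x
  exact hd ▸ VarDim.deg_le_of_specializes f hη

include f hdim in
/-- Two local equations with finitely many common zeros on a Cohen-Macaulay surface form a regular sequence. -/
theorem dvd_of_dvd_mul (hCM : ∀ x : X, LocCoh.IsCohenMacaulayLocalRing (X.presheaf.stalk x))
    {V : X.Opens} (hV : IsAffineOpen V) {Z : Set X} (hZ : IsClosed Z) (hf : Z.Finite) {c d : Γ(X, V)}
    (hzero : ∀ q : PrimeSpectrum Γ(X, V), c ∈ q.asIdeal → d ∈ q.asIdeal → hV.fromSpec q ∈ Z)
    {a : Γ(X, V)} (h : d ∣ a * c) : d ∣ a := by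
  haveI : JacobsonSpace X := LocallyOfFiniteType.jacobsonSpace f
  rw [← Ideal.mem_span_singleton]
  refine Ideal.mem_of_localization_maximal fun P hP => ?_
  rw [Ideal.map_span, Set.image_singleton, Ideal.mem_span_singleton]
  let x : PrimeSpectrum Γ(X, V) := ⟨P, hP.isPrime⟩
  let S := X.presheaf.stalk (hV.fromSpec x)
  letI : Algebra Γ(X, V) S := (X.presheaf.germ V (hV.fromSpec x) (VarDim.fromSpec_mem hV x)).hom.toAlgebra
  haveI : IsLocalization.AtPrime S P := by exact hV.isLocalization_stalk' x (VarDim.fromSpec_mem hV x)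
  suffices hS : algebraMap Γ(X, V) S d ∣ algebraMap Γ(X, V) S a by
    let e := IsLocalization.algEquiv P.primeCompl S (Localization.AtPrime P)
    have h' := map_dvd e hS
    rwa [e.commutes, e.commutes] at h'
  by_cases hcd : c ∈ P ∧ d ∈ P
  swap
  · have h' : algebraMap Γ(X, V) S d ∣ algebraMap Γ(X, V) S a * algebraMap Γ(X, V) S c := by
      rw [← map_mul]
      exact map_dvd _ h
    rcases not_and_or.1 hcd with hc | hd
    · exact (IsLocalization.map_units S (⟨c, hc⟩ : P.primeCompl)).dvd_mul_right.1 h'
    · exact (IsLocalization.map_units S (⟨d, hd⟩ : P.primeCompl)).dvd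
  have hcl := isClosed_singleton_of_finite hZ hf (hzero x hcd.1 hcd.2)
  -- the local ring has dimension two
  obtain ⟨b, hb, ⟨η, hη, hηb⟩, hle⟩ := VarDim.exists_deg_add_stalk f (hV.fromSpec x)
  obtain ⟨η', hη', hd'⟩ := exists_generic f hdim (hV.fromSpec x)
  have h0 := (VarDim.closedPoint_iff_deg_eq_zero f (hV.fromSpec x)).1 hcl
  have hb2 : b = 2 := by
    have h1 := hle η' hη'
    have h2 := deg_le_two f hdim η
    omega
  subst hb2
  haveI := hCM (hV.fromSpec x)
  rw [← Ideal.mem_span_singleton, ← Ideal.ofList_singleton]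
  refine LC.mem_of_mul_mem_of_sop (LocCoh.IsCohenMacaulayLocalRing.supportDim_eq_depth) 2 hb
    [algebraMap Γ(X, V) S d] (algebraMap Γ(X, V) S c) rfl ?_ ?_
  · refine le_antisymm ?_ ?_
    · rw [← (IsLocalRing.maximalIdeal.isMaximal S).isPrime.isRadical.radical]
      refine Ideal.radical_mono (sup_le ?_ ?_)
      · rw [Ideal.ofList_singleton, Ideal.span_singleton_le_iff_mem]
        exact (IsLocalization.AtPrime.to_map_mem_maximal_iff S P d).2 hcd.2
      · rw [Ideal.span_singleton_le_iff_mem]
        exact (IsLocalization.AtPrime.to_map_mem_maximal_iff S P c).2 hcd.1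
    · rw [Ideal.radical_eq_sInf]
      refine le_sInf fun Q ⟨hQ, hQp⟩ => ?_
      haveI := hQp
      let y : PrimeSpectrum Γ(X, V) := ⟨Q.comap (algebraMap Γ(X, V) S), inferInstance⟩
      have hmem := (sup_le_iff.1 hQ)
      have hy := isClosed_singleton_of_finite hZ hf (hzero y (hmem.2 (Ideal.mem_span_singleton_self _))
        (hmem.1 (by rw [Ideal.ofList_singleton]; exact Ideal.mem_span_singleton_self _)))
      have hyP : Q.comap (algebraMap Γ(X, V) S) ≤ P := by
        intro z hz
        exact (IsLocalization.AtPrime.to_map_mem_maximal_iff S P z).1 (IsLocalRing.le_maximalIdeal hQp.ne_top hz)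
      have hsp : hV.fromSpec y ⤳ hV.fromSpec x := (VarDim.fromSpec_specializes_iff hV y x).2 hyP
      have hyx : y = x := hV.fromSpec.isOpenEmbedding.injective (hsp.mem_closed hy rfl).symm
      rw [← IsLocalization.map_under P.primeCompl S Q, ← IsLocalization.AtPrime.map_eq_maximalIdeal P S]
      exact Ideal.map_mono (le_of_eq (congrArg PrimeSpectrum.asIdeal hyx).symm)
  · rw [Ideal.ofList_singleton, Ideal.mem_span_singleton, ← map_mul, mul_comm c a]
    exact map_dvd _ h

variable (k) [X.Over (Spec (CommRingCat.of k))] [IsProper (X ↘ Spec (CommRingCat.of k))]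

include hdim in
/-- The intersection number of two divisors without common component is the length of their intersection. -/
theorem intNum_eq (hCM : ∀ x : X, LocCoh.IsCohenMacaulayLocalRing (X.presheaf.stalk x))
    (IC ID : X.IdealSheafData) (hC : BlowUp.IsEffCartierIdeal IC) (hD : BlowUp.IsEffCartierIdeal ID)
    (hfin : ((IC ⊔ ID).support : Set X).Finite) :
    FGA.intNum k X 2 ![ClSub.idealMod IC, ClSub.idealMod ID] (Coh.structureModule X) =
      (Module.finrank k (Coh.HH X (ClSub.quotMod (IC ⊔ ID)) 0) : ℤ) := by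
  haveI := CurveCohLib.isNoetherian_of_proper (k := k) (X := X)
  let f := X ↘ Spec (CommRingCat.of k)
  have hC' : BlowUp.IsEffCartierIdeal IC := hC
  have hD' : BlowUp.IsEffCartierIdeal ID := hD
  have hIC := H26.IdealCl.isInvertible_idealMod hC'
  have hID := H26.IdealCl.isInvertible_idealMod hD'
  -- the divisor `D`
  let i := ID.subschemeι
  letI : ID.subscheme.Over (Spec (CommRingCat.of k)) := ⟨i ≫ f⟩
  haveI : IsProper (ID.subscheme ↘ Spec (CommRingCat.of k)) := inferInstanceAs (IsProper (i ≫ f))
  haveI := CurveCohLib.isNoetherian_of_proper (k := k) (X := ID.subscheme)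
  -- the equation of `C` stays regular on `D`
  have hB : BlowUp.IsEffCartierIdeal (IC.comap i) := fun y => by
    obtain ⟨U₁, hx₁, c₀, -, hc₀⟩ := hC' (i y)
    obtain ⟨U₂, hx₂, d₀, hd₀n, hd₀⟩ := hD' (i y)
    obtain ⟨V, hV, hxV, hVU⟩ := exists_isAffineOpen_mem_and_subset (x := i y) (U := U₁.1 ⊓ U₂.1) ⟨hx₁, hx₂⟩
    have h1 : V ≤ U₁.1 := fun z hz => (hVU hz).1
    have h2 : V ≤ U₂.1 := fun z hz => (hVU hz).2
    let c := X.presheaf.map (homOfLE h1).op c₀
    let d := X.presheaf.map (homOfLE h2).op d₀
    have hc : IC.ideal ⟨V, hV⟩ = Ideal.span {c} := by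
      rw [← IC.map_ideal (U := ⟨V, hV⟩) (V := U₁) h1, hc₀, Ideal.map_span, Set.image_singleton]
      rfl
    have hd : ID.ideal ⟨V, hV⟩ = Ideal.span {d} := by
      rw [← ID.map_ideal (U := ⟨V, hV⟩) (V := U₂) h2, hd₀, Ideal.map_span, Set.image_singleton]
      rfl
    refine ⟨⟨i ⁻¹ᵁ V, hV.preimage i⟩, hxV, i.app V c, ?_, ?_⟩
    · rw [mem_nonZeroDivisors_iff_right]
      intro r hr
      obtain ⟨a, rfl⟩ := i.app_surjective V hV r
      rw [← map_mul, ← RingHom.mem_ker, ID.ker_subschemeι_app ⟨V, hV⟩, hd, Ideal.mem_span_singleton] at hr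
      refine RingHom.mem_ker.1 ?_
      rw [ID.ker_subschemeι_app ⟨V, hV⟩, hd, Ideal.mem_span_singleton]
      refine dvd_of_dvd_mul f hdim hCM hV (IC ⊔ ID).support.isClosed hfin (fun q hcq hdq => ?_) hr
      have hq : hV.fromSpec q ∈ X.zeroLocus (U := V) ((IC ⊔ ID).ideal ⟨V, hV⟩) ∩ (V : Set X) := by
        refine ⟨?_, VarDim.fromSpec_mem hV q⟩
        rw [Scheme.IdealSheafData.ideal_sup, Pi.sup_apply, hc, hd, ← Ideal.span_union, Scheme.zeroLocus_span,
          Scheme.mem_zeroLocus_iff]
        rintro g (rfl | rfl) hg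
        all_goals
          have hg' : q ∈ hV.fromSpec ⁻¹ᵁ X.basicOpen _ := hg
          rw [hV.fromSpec_preimage_basicOpen] at hg'
        · exact hg' hcq
        · exact hg' hdq
      rw [← (IC ⊔ ID).coe_support_inter ⟨V, hV⟩] at hq
      exact hq.1
    · rw [ModPairLib.ideal_comap IC i ⟨V, hV⟩ ⟨_, hV.preimage i⟩ le_rfl, hc, Ideal.map_span, Set.image_singleton,
        ← Scheme.Hom.app_eq_appLE]
  -- intersection number as Euler characteristic on `D`
  have hdim2 : topologicalKrullDim X ≤ 2 := by
    rw [VarDim.topologicalKrullDim_eq_iSup_deg f]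
    exact iSup_le fun x => (Nat.cast_le (α := WithBot ℕ∞)).2 (deg_le_two f hdim x)
  rw [SurfPairing.intNum_eq_pair k hdim2 hIC hID, SurfPairing.pair_comm]
  have hp := CurveOnSurf.pair_ideal (k := k) i hIC (by rw [Scheme.IdealSheafData.ker_subschemeι]; exact hID)
  rw [Scheme.IdealSheafData.ker_subschemeι] at hp
  rw [hp]
  obtain ⟨ep⟩ := H26.InterDiv.nonempty_pullback_idealMod i IC hC' hB
  let B := IC.comap i
  have hadd := CurveCohLib.euler_additive (k := k) (DivisorExt.ideal_shortExact B)
    (AmpleVan.isCoh_invertible (H26.IdealCl.isInvertible_idealMod hB)) QCoh.isCoh_structureModule'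
    (ParShLib.isCoh_quotMod B)
  replace hadd : Curv2.euler k ID.subscheme (Coh.structureModule ID.subscheme) =
      Curv2.euler k ID.subscheme (ClSub.idealMod B) + Curv2.euler k ID.subscheme (ClSub.quotMod B) := hadd
  have hdeg : -Curv2.deg k ID.subscheme ((Scheme.Modules.pullback i).obj (ClSub.idealMod IC)) 1 =
      Curv2.euler k ID.subscheme (ClSub.quotMod B) := by
    unfold Curv2.deg
    rw [CurveCohLib.euler_congr (k := k) ep, hadd]
    push_cast
    ring
  rw [hdeg]
  -- the zero-dimensional intersection scheme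
  let W := B.subscheme
  haveI : IsClosedImmersion (B.subschemeι ≫ i) := inferInstance
  let g : W ⟶ X := B.subschemeι ≫ i
  letI : W.Over (Spec (CommRingCat.of k)) := ⟨B.subschemeι ≫ i ≫ f⟩
  haveI : IsProper (W ↘ Spec (CommRingCat.of k)) := inferInstanceAs (IsProper (B.subschemeι ≫ i ≫ f))
  haveI : IsClosedImmersion g := inferInstanceAs (IsClosedImmersion (B.subschemeι ≫ i))
  haveI := CurveCohLib.isNoetherian_of_proper (k := k) (X := W)
  haveI : W.IsSeparated := ⟨by
    rw [← Limits.terminal.comp_from (W ↘ Spec (CommRingCat.of k))]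
    infer_instance⟩
  have hker : g.ker = IC ⊔ ID := by
    show B.map i = _
    rw [H26.InterSymm.map_comap_eq, Scheme.IdealSheafData.ker_subschemeι]
  have hdimW : topologicalKrullDim W ≤ (0 : ℕ) := by
    have hr : Set.range g = ((IC ⊔ ID).support : Set X) := by
      rw [← hker, Scheme.Hom.support_ker, g.isClosedEmbedding.isClosed_range.closure_eq]
    haveI : Finite W := by
      haveI := hfin.to_subtype
      refine Finite.of_injective (fun w : W => (⟨g w, hr.le ⟨w, rfl⟩⟩ : ((IC ⊔ ID).support : Set X))) ?_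
      intro a b h
      have h' : g a = g b := Subtype.mk_eq_mk.1 h
      exact (Scheme.Hom.isClosedEmbedding g).injective h'
    haveI : JacobsonSpace W := LocallyOfFiniteType.jacobsonSpace (B.subschemeι ≫ i ≫ f)
    haveI : DiscreteTopology W := by
      haveI : T1Space W := ⟨fun w => isClosed_singleton_of_finite isClosed_univ Set.finite_univ trivial⟩
      exact Finite.instDiscreteTopology
    exact topologicalKrullDim_zero_of_discreteTopology _
  have hO : Coh.IsQCoh (Coh.structureModule W) := QCoh.isQCoh_structureModule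
  obtain ⟨b⟩ := DivisorExt.nonempty_quotMod_iso B.subschemeι
  rw [Scheme.IdealSheafData.ker_subschemeι] at b
  obtain ⟨a⟩ := DivisorExt.nonempty_quotMod_iso g
  rw [hker] at a
  have hvan : ∀ q : ℕ, Subsingleton (Coh.HH ID.subscheme (ClSub.quotMod B) (q + 1)) := fun q => by
    haveI := Snapper.subsingleton_HH_of_dim_le hdimW hO (i := q + 1) (by omega)
    obtain ⟨e⟩ := PnCoh.exists_linearEquiv_push k B.subschemeι (rfl : B.subschemeι ≫ i ≫ f = _) hO (q + 1)
    exact ((CurveCohLib.hhEquiv (k := k) b (q + 1)).trans e.symm).injective.subsingleton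
  rw [CurveAmple.euler_eq_h0_of_vanishing (k := k) hvan]
  obtain ⟨e₁⟩ := PnCoh.exists_linearEquiv_push k B.subschemeι (rfl : B.subschemeι ≫ i ≫ f = _) hO 0
  obtain ⟨e₂⟩ := PnCoh.exists_linearEquiv_push k g
    (show g ≫ f = B.subschemeι ≫ i ≫ f from Category.assoc _ _ _) hO 0
  rw [((CurveCohLib.hhEquiv (k := k) b 0).trans e₁.symm).finrank_eq,
    ((CurveCohLib.hhEquiv (k := k) a 0).trans e₂.symm).finrank_eq]

end Groth.Agent.InterFinite
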