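import Groth.Agent.AffCompl.Curves
import Groth.Agent.CDivEq.Basic
import Groth.Agent.Lib.IdealModMul
import Groth.Agent.Nakai.SurfProj
import Groth.Agent.QCoh.Sections

/-!
# Removing common zero curves from a family of sections of an invertible module
-/

set_option autoImplicit false
set_option linter.style.haveILetI false
set_option linter.unusedSectionVars false
set_option backward.isDefEq.respectTransparency false
set_option backward.isDefEq.respectTransparency.types false
set_option maxHeartbeats 1000000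

universe u

open CategoryTheory CategoryTheory.Limits AlgebraicGeometry TopologicalSpace Opposite
open Groth.Agent.H23 Groth.Agent.H23.TrivBasic

noncomputable section

namespace Groth.Agent.AffCompl

attribute [local instance] PicMul.clMonoid

section Twist

variable {X : Scheme.{u}}

theorem mono_mulIdeal (K : X.IdealSheafData) {L : X.Modules} (hL : PicF.IsInvertible L) :
    Mono (DivisorExt.mulIdeal K L) := by
  haveI := CurveOnSurf.isEquivalence_tensor hL
  haveI : Mono (ClSub.idealModι K) := inferInstanceAs (Mono (kernel.ι _))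
  haveI : Mono ((DCoh.tensorBi.obj L).map (ClSub.idealModι K)) := inferInstance
  exact mono_comp _ _

/-- A section vanishing on a reduced subscheme is the image of a section of the twist by its ideal. -/
theorem exists_preimage (K : X.IdealSheafData) [IsReduced K.subscheme] {L : X.Modules}
    (hL : PicF.IsInvertible L) (s : Γ(L, ⊤)) (hK : ∀ x ∈ K.support, x ∉ locus s) :
    ∃ t : Γ(CohB1.tensorMod L (ClSub.idealMod K), ⊤), (DivisorExt.mulIdeal K L).app ⊤ t = s := by
  haveI := mono_mulIdeal K hL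
  let f := DivisorExt.mulIdeal K L
  have hz : (cokernel.π f).app ⊤ s = 0 := by
    refine AModX.eq_of_locally _ _ fun x _ => ?_
    obtain ⟨U₀, hxU₀, ε₀, hε₀⟩ := InvX.exists_frame hL x
    obtain ⟨U, hU, hxU, hUU₀⟩ := exists_isAffineOpen_mem_and_subset (x := x) (U := U₀) hxU₀
    replace hUU₀ : U ≤ U₀ := hUU₀
    refine ⟨U, le_top, hxU, ?_⟩
    have hε := hε₀.res hUU₀
    obtain ⟨g, hg⟩ := hε.exists_coord le_rfl (AModX.res L (le_top : U ≤ ⊤) s)
    rw [AModX.res_self] at hg
    have hgK : K.subschemeι.app U g = 0 := by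
      refine eq_zero_of_basicOpen_eq_bot _ (le_bot_iff.1 fun z hz => ?_)
      rw [← Scheme.preimage_basicOpen] at hz
      have h1 : K.subschemeι z ∈ K.support := by
        have : K.subschemeι z ∈ Set.range K.subschemeι := ⟨z, rfl⟩
        rwa [Scheme.IdealSheafData.range_subschemeι] at this
      exact hK _ h1 ((locus_eq_basicOpen hε hg).ge hz).1
    obtain ⟨c, hc⟩ := OmegaLib.exists_idealSect_eq K U g hgK
    rw [← AModX.app_res, hg, map_zero]
    rw [← hc, ← DivisorExt.mulIdeal_tmS K L]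
    exact ConcreteCategory.congr_hom (congrArg (fun q => Scheme.Modules.Hom.app q U) (cokernel.condition f)) _
  have hcomp : InvX.ofSect s ≫ cokernel.π f = 0 := by
    refine CurveRR.hom_ext_one ?_
    show (cokernel.π f).app ⊤ ((InvX.ofSect s).app ⊤ (1 : Γ(X, ⊤))) = _
    rw [show (InvX.ofSect s).app ⊤ (1 : Γ(X, ⊤)) = s from InvX.one_ofSect s, hz]
    rfl
  let S := ShortComplex.mk f (cokernel.π f) (cokernel.condition f)
  have hex : S.Exact := ShortComplex.exact_of_g_is_cokernel _ (cokernelIsCokernel f)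
  let φ : Coh.structureModule X ⟶ CohB1.tensorMod L (ClSub.idealMod K) := hex.lift (InvX.ofSect s) hcomp
  refine ⟨InvX.one φ, ?_⟩
  have h := hex.lift_f (InvX.ofSect s) hcomp
  rw [← InvX.one_ofSect s, ← h]
  rfl

/-- Twisting by an ideal does not change the zeros outside the subscheme. -/
theorem mem_locus_mulIdeal_iff (K : X.IdealSheafData) (hK : PicF.IsInvertible (ClSub.idealMod K)) {L : X.Modules}
    (hL : PicF.IsInvertible L) (t : Γ(CohB1.tensorMod L (ClSub.idealMod K), ⊤)) {x : X} (hx : x ∉ K.support) :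
    x ∈ locus ((DivisorExt.mulIdeal K L).app ⊤ t) ↔ x ∈ locus t := by
  obtain ⟨U₁, hx₁, e₀, he₀⟩ := InvX.exists_frame hL x
  obtain ⟨U₂, hx₂, κ₀, hκ₀⟩ := InvX.exists_frame hK x
  let O : X.Opens := U₁ ⊓ U₂ ⊓ ⟨(K.support : Set X)ᶜ, K.support.isClosed.isOpen_compl⟩
  obtain ⟨V, hV, hxV, hVO⟩ := exists_isAffineOpen_mem_and_subset (x := x) (U := O) ⟨⟨hx₁, hx₂⟩, hx⟩
  have h₁ : V ≤ U₁ := fun y hy => (hVO hy).1.1
  have h₂ : V ≤ U₂ := fun y hy => (hVO hy).1.2
  have he := he₀.res h₁
  have hκ := hκ₀.res h₂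
  set e := AModX.res L h₁ e₀
  set κ := AModX.res (ClSub.idealMod K) h₂ κ₀
  have htop : K.ideal ⟨V, hV⟩ = ⊤ :=
    CDivEq.ideal_eq_top K ⟨V, hV⟩ (Set.disjoint_left.2 fun y hy hyV => (hVO hyV).2 hy)
  have hu : IsUnit (OmegaSh.idealSect K V κ) := by
    rw [← Ideal.span_singleton_eq_top, ← (IdealModMul.frame_spec (V := ⟨V, hV⟩) hκ).2, htop]
  have hf : InvX.IsFrame (show Γ(CohB1.tensorMod L (ClSub.idealMod K), V) from QCoh.tmS L _ e κ) :=
    InvX.isFrame_tmul he hκ
  obtain ⟨c, hc⟩ := hf.exists_coord le_rfl (AModX.res _ (le_top : V ≤ ⊤) t)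
  rw [AModX.res_self] at hc
  have hs : AModX.res L (le_top : V ≤ ⊤) ((DivisorExt.mulIdeal K L).app ⊤ t) = c • (OmegaSh.idealSect K V κ • e) := by
    rw [← DivisorExt.mulIdeal_tmS K L e κ]
    refine ((AModX.app_res (DivisorExt.mulIdeal K L) (le_top : V ≤ ⊤) t).symm).trans ?_ |>.trans
      (Scheme.Modules.Hom.app_smul _ _ _)
    exact congrArg _ hc
  have h3 := locus_eq_basicOpen (he.isUnit_smul hu) hs
  have h4 := locus_eq_basicOpen hf hc
  exact ⟨fun h => (h4.ge (h3.le ⟨h, hxV⟩)).1, fun h => (h3.ge (h4.le ⟨h, hxV⟩)).1⟩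

end Twist

variable (k : Type u) [Field k] {X : Scheme.{u}} [X.Over (Spec (CommRingCat.of k))]
  [IsProper (X ↘ Spec (CommRingCat.of k))] [IsIntegral X]

/-- The invariants kept when common zero curves are removed. -/
structure Reduced {ι : Type} [Fintype ι] {κ : Type} (ξ : ι → X) (S : Finset ι) {L : X.Modules} (τ : κ → Γ(L, ⊤)) where
  L' : X.Modules
  hL' : PicF.IsInvertible L'
  τ' : κ → Γ(L', ⊤)
  a : ι → ℕ
  ha : ∀ j, j ∉ S → a j = 0
  hcl : PicF.cl L' = PicF.cl L * ∏ j, PicF.cl (ClSub.idealMod (curveOf (ξ j))) ^ a j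
  hgen : ∀ j ∈ S, ∃ i, ξ j ∈ locus (τ' i)
  hvan : ∀ j, a j ≠ 0 → ∀ i, ξ j ∉ locus (τ i)
  hle : ∀ i, locus (τ i) ≤ locus (τ' i)
  hsame : ∀ i x, (∀ j, a j ≠ 0 → x ∉ closure ({ξ j} : Set X)) → x ∈ locus (τ' i) → x ∈ locus (τ i)
  hratio : ∀ (V : X.Opens) i i' (r : Γ(X, V)),
    AModX.res L (le_top : V ≤ ⊤) (τ i) = r • AModX.res L le_top (τ i') →
      AModX.res L' (le_top : V ≤ ⊤) (τ' i) = r • AModX.res L' le_top (τ' i')

include k in
/-- Removing the common zero curves among a finite list. -/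
theorem exists_reduced (hdim : topologicalKrullDim X = 2) (hreg : ∀ x : X, IsRegularLocalRing (X.presheaf.stalk x))
    {ι : Type} [Fintype ι] {κ : Type} (ξ : ι → X)
    (hξ : ∀ j, VarDim.deg (X ↘ Spec (CommRingCat.of k)) (ξ j) = 1) (S : Finset ι) {L : X.Modules}
    (hL : PicF.IsInvertible L) (τ : κ → Γ(L, ⊤)) (i₀ : κ) (h₀ : τ i₀ ≠ 0) :
    Nonempty (Reduced ξ S τ) := by
  classical
  obtain ⟨H, hH⟩ := Nakai.exists_isAmple_of_regular k hdim hreg
  suffices h : ∀ (n : ℕ) (L : X.Modules), PicF.IsInvertible L → ∀ τ : κ → Γ(L, ⊤), τ i₀ ≠ 0 →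
      SurfPairing.pair k (PicF.cl L) (PicF.cl H) < n → Nonempty (Reduced ξ S τ) from
    h _ L hL τ h₀ (show _ < (((SurfPairing.pair k (PicF.cl L) (PicF.cl H)).toNat + 1 : ℕ) : ℤ) by push_cast; omega)
  intro n
  induction n with
  | zero => exact fun L hL τ h₀ h => absurd h (not_lt.2 (SurfAmple.pair_nonneg (k := k) hdim.le hL hH h₀))
  | succ n ih =>
    intro L hL τ h₀ hlt
    by_cases hg : ∀ j ∈ S, ∃ i, ξ j ∈ locus (τ i)
    · exact ⟨⟨L, hL, τ, 0, fun _ _ => rfl, by simp, hg, fun j hj => absurd rfl hj, fun _ => le_rfl,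
        fun _ _ _ h => h, fun _ _ _ _ h => h⟩⟩
    · simp only [not_forall, exists_prop, not_exists] at hg
      obtain ⟨j, hjS, hj⟩ := hg
      let K := curveOf (ξ j)
      haveI := isIntegral_curveOf (ξ j)
      have hK : PicF.IsInvertible (ClSub.idealMod K) := isInvertible_curveOf k hreg hdim (hξ j)
      have hvan : ∀ i, ∀ x ∈ K.support, x ∉ locus (τ i) := fun i x hx hxl => by
        have hx' : x ∈ closure ({ξ j} : Set X) := coe_support_curveOf (ξ j) ▸ hx
        exact hj i ((specializes_iff_mem_closure.2 hx').mem_open (locus (τ i)).isOpen hxl)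
      choose σ hσ using fun i => exists_preimage K hL (τ i) (hvan i)
      have hσ0 : σ i₀ ≠ 0 := fun h => h₀ (by rw [← hσ i₀, h, map_zero])
      have hLK := PicMul.isInvertible_tensor hL hK
      have hneg := SurfNegDef.pair_curve_ample_neg (k := k) hdim hreg (C := K) (dim_curveOf k (hξ j)) hH
      have hp : SurfPairing.pair k (PicF.cl (CohB1.tensorMod L (ClSub.idealMod K))) (PicF.cl H) < n := by
        rw [PicMul.cl_tensor, SurfPairing.pair_comm k _ (PicF.cl H), SurfPairing.pair_mul k hdim.le hH.1 hL hK,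
          SurfPairing.pair_comm k (PicF.cl H) (PicF.cl L), SurfPairing.pair_comm k (PicF.cl H)]
        push_cast at hlt
        linarith
      obtain ⟨R⟩ := ih _ hLK σ hσ0 hp
      have hlocle : ∀ i, locus (τ i) ≤ locus (σ i) := fun i x hx => by
        rw [← hσ i] at hx
        exact (mem_locus_mulIdeal_iff K hK hL (σ i) fun h => hvan i x h (by rw [← hσ i]; exact hx)).1 hx
      refine ⟨⟨R.L', R.hL', R.τ', R.a + Pi.single j 1, fun l hl => ?_, ?_, R.hgen, fun l hl i => ?_,
        fun i => (hlocle i).trans (R.hle i), fun i x hx hxl => ?_, fun V i i' r h => R.hratio V i i' r ?_⟩⟩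
      · rw [Pi.add_apply, R.ha l hl, Pi.single_eq_of_ne (fun e : l = j => hl (e ▸ hjS)), add_zero]
      · rw [R.hcl, PicMul.cl_tensor, mul_assoc]
        congr 1
        simp only [Pi.add_apply, pow_add, Finset.prod_mul_distrib]
        rw [mul_comm]
        congr 1
        rw [Finset.prod_eq_single j]
        · simp [K]
        · intro l _ hl
          simp [Pi.single_eq_of_ne hl]
        · simp
      · by_cases hlj : l = j
        · exact hlj ▸ hj i
        · rw [Pi.add_apply, Pi.single_eq_of_ne hlj, add_zero] at hl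
          exact fun h => R.hvan l hl i (hlocle i h)
      · have hxj : x ∉ closure ({ξ j} : Set X) := hx j (by simp)
        have h1 := R.hsame i x (fun l hl => hx l (by simp [hl])) hxl
        rw [← hσ i]
        exact (mem_locus_mulIdeal_iff K hK hL (σ i) fun h => hxj (coe_support_curveOf (ξ j) ▸ h)).2 h1
      · haveI := mono_mulIdeal K hL
        refine QCoh.app_injective (DivisorExt.mulIdeal K L) V ?_
        have e : ∀ i, (DivisorExt.mulIdeal K L).app V
            (AModX.res (CohB1.tensorMod L (ClSub.idealMod K)) (le_top : V ≤ ⊤) (σ i)) =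
            AModX.res L (le_top : V ≤ ⊤) (τ i) := fun i => by
          rw [← hσ i]
          exact AModX.app_res (DivisorExt.mulIdeal K L) (le_top : V ≤ ⊤) (σ i)
        exact (e i).trans (h.trans ((congrArg (r • ·) (e i').symm).trans (Scheme.Modules.Hom.app_smul _ _ _).symm))

end Groth.Agent.AffCompl
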