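import Groth.Agent.AffCompl.Lift
import Groth.Agent.AffCompl.Deg
import Groth.Agent.Nakai.SurfCriterion
import Groth.Agent.Lib.EffCompl
import Groth.Agent.H26.IdealCl
import Groth.Agent.AmpleX.Extend

/-!
# An ample divisor supported on the complement of an affine open of a regular proper surface

A family of functions on the affine open, with poles along every set of boundary curves and zeros on curves through
a point of each boundary curve, gives a moving divisor on the boundary from which one of positive degree on every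
curve is built.
-/

set_option autoImplicit false
set_option linter.style.haveILetI false
set_option linter.unusedSectionVars false
set_option backward.isDefEq.respectTransparency false
set_option backward.isDefEq.respectTransparency.types false
set_option maxHeartbeats 2000000

universe u

open CategoryTheory CategoryTheory.Limits AlgebraicGeometry TopologicalSpace Opposite
open Groth.Agent.H23 Groth.Agent.H23.TrivBasic Groth.Agent.H26

noncomputable section

namespace Groth.Agent.AffCompl

attribute [local instance] PicMul.clMonoid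

/-- An open of an integral separated scheme on which every function of an affine open extends lies in it. -/
theorem le_of_surjective_restriction {X : Scheme.{u}} [IsIntegral X] [X.IsSeparated] {U W : X.Opens}
    (hU : IsAffineOpen U) (hne : (U : Set X).Nonempty) (h : U ≤ W)
    (hs : Function.Surjective (X.presheaf.map (homOfLE h).op)) : W ≤ U := by
  haveI : Nonempty U := hne.to_subtype
  let res := X.presheaf.map (homOfLE h).op
  have hinj : Function.Injective res := AlgebraicGeometry.map_injective_of_isIntegral X (homOfLE h)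
  let e := RingEquiv.ofBijective res.hom ⟨hinj, hs⟩
  let back : Γ(X, U) ⟶ Γ(X, W) := CommRingCat.ofHom e.symm.toRingHom
  have hback : back ≫ res = 𝟙 _ := by
    ext a
    exact e.apply_symm_apply a
  let r : (W : Scheme.{u}) ⟶ X := W.toSpecΓ ≫ Spec.map back ≫ hU.fromSpec
  haveI : Nonempty W := let ⟨x, hx⟩ := hne; ⟨⟨x, h hx⟩⟩
  haveI : IsDominant (X.homOfLE h) := by
    refine ⟨?_⟩
    have hop : IsOpen (Set.range (X.homOfLE h)) := (X.homOfLE h).isOpenEmbedding.isOpen_range
    exact hop.dense (Set.range_nonempty _)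
  have hr : r = W.ι := by
    refine ext_of_isDominant_of_isSeparated (terminal.from X) (terminal.hom_ext _ _) (X.homOfLE h) ?_
    show X.homOfLE h ≫ W.toSpecΓ ≫ Spec.map back ≫ hU.fromSpec = X.homOfLE h ≫ W.ι
    rw [X.homOfLE_ι, ← reassoc_of% (Scheme.Opens.toSpecΓ_SpecMap_presheaf_map U W h), ← Spec.map_comp_assoc,
      hback, Spec.map_id, Category.id_comp, hU.toSpecΓ_fromSpec]
  intro x hx
  have hx' : W.ι ⟨x, hx⟩ ∈ (U : Set X) := by
    rw [← hr, ← hU.range_fromSpec]
    exact ⟨_, rfl⟩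
  exact hx'

variable (k : Type u) [Field k] {X : Scheme.{u}} [X.Over (Spec (CommRingCat.of k))]
  [IsProper (X ↘ Spec (CommRingCat.of k))] [IsIntegral X]

/-- Pairing with a product of powers. -/
theorem pair_prod (hdim : topologicalKrullDim X = 2) {A : X.Modules} (hA : PicF.IsInvertible A)
    {ι : Type*} (J : ι → X.IdealSheafData) (hJ : ∀ j, BlowUp.IsEffCartierIdeal (J j)) (a : ι → ℕ) (s : Finset ι) :
    SurfPairing.pair k (PicF.cl A) (∏ j ∈ s, PicF.cl (ClSub.idealMod (J j)) ^ a j) =
      ∑ j ∈ s, (a j : ℤ) * SurfPairing.pair k (PicF.cl A) (PicF.cl (ClSub.idealMod (J j))) := by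
  classical
  induction s using Finset.induction with
  | empty => simpa using SurfPairing.pair_one k (PicF.cl A)
  | insert i s hi ih =>
    have hi' := IdealCl.isInvertible_idealMod (hJ i)
    rw [Finset.prod_insert hi, Finset.sum_insert hi, ← (IdealCl.eff_and_cl_prod s J hJ a).2,
      ← PicMul.cl_tensorPow, SurfPairing.pair_mul k hdim.le hA (PicMul.isInvertible_tensorPow hi' _)
        (IdealCl.isInvertible_idealMod (IdealCl.eff_and_cl_prod s J hJ a).1),
      SurfAmple.pair_pow hdim.le hA hi', (IdealCl.eff_and_cl_prod s J hJ a).2, ih]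

include k in
/-- There is an effective divisor with support exactly the complement of an affine open, ample. -/
theorem exists_ample_divisor (hdim : topologicalKrullDim X = 2)
    (hreg : ∀ x : X, IsRegularLocalRing (X.presheaf.stalk x)) (U : X.Opens) (hU : IsAffineOpen U)
    (hne : (U : Set X).Nonempty) :
    ∃ I : X.IdealSheafData, BlowUp.IsEffCartierIdeal I ∧ (I.support : Set X) = (U : Set X)ᶜ ∧
      ∀ L : X.Modules, PicF.IsInvertible L → ClSub.IsInverseOf L (ClSub.idealMod I) → CohB1.IsAmple L := by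
  classical
  let f := X ↘ Spec (CommRingCat.of k)
  haveI := CurveCohLib.isNoetherian_of_proper (k := k) (X := X)
  haveI : CompactSpace X := inferInstance
  haveI : X.IsSeparated := ⟨by
    rw [← Limits.terminal.comp_from (X ↘ Spec (CommRingCat.of k))]
    infer_instance⟩
  let Z : Set X := (U : Set X)ᶜ
  have hgU : genericPoint X ∈ U := by
    obtain ⟨y, hy⟩ := hne
    exact (genericPoint_specializes y).mem_open U.2 hy
  have hdense : Dense (U : Set X) := U.isOpen.dense hne
  -- the reduced boundary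
  obtain ⟨E, hE, hEsupp⟩ := EffCompl.exists_effCartier_compl X (fun V W hV hW => hV.inf hW) U hU hdense fun x _ => by
    haveI := hreg x
    exact CurveOnSurf.ufd_of_dim_le_two _ ((SchTop.ringKrullDim_stalk_le x).trans hdim.le)
  have hEi := IdealCl.isInvertible_idealMod hE
  obtain ⟨L₀, hL₀, hL₀E⟩ := PicInv.exists_inverse hEi
  have hinv₀ : ClSub.IsInverseOf L₀ (ClSub.idealMod E) := by
    obtain ⟨e⟩ := hL₀E
    obtain ⟨c⟩ := PicMul.comm L₀ (ClSub.idealMod E)
    exact ⟨c ≪≫ e⟩
  obtain ⟨s, hs0, hs⟩ := AVAmple.exists_divisor_section_ne_zero E hE hL₀ hinv₀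
  have hlocU : locus s = U := by
    refine Opens.ext (Set.ext fun x => ?_)
    rw [SetLike.mem_coe, hs x]
    show ¬ x ∈ (E.support : Set X) ↔ _
    rw [hEsupp, Set.mem_compl_iff, not_not]
  -- the boundary curves
  have hP := finite_deg_one k hdim U.isOpen.isClosed_compl (show genericPoint X ∉ Z from fun h => h hgU)
  obtain ⟨N, e⟩ := Finite.exists_equiv_fin {η : X | η ∈ Z ∧ VarDim.deg f η = 1}
    (h := hP.to_subtype)
  obtain ⟨e⟩ := e
  let ξ : Fin N → X := fun j => (e.symm j).1
  have hξd : ∀ j, VarDim.deg f (ξ j) = 1 := fun j => (e.symm j).2.2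
  have hξZ : ∀ j, ξ j ∉ U := fun j => (e.symm j).2.1
  have hξinj : Function.Injective ξ := fun i j h => e.symm.injective (Subtype.ext h)
  have hξsurj : ∀ η, η ∉ U → VarDim.deg f η = 1 → ∃ j, ξ j = η := fun η h1 h2 =>
    ⟨e ⟨η, h1, h2⟩, by simp [ξ]⟩
  have hcov : ∀ x, x ∉ U → ∃ j, ξ j ⤳ x := fun x hx => by
    obtain ⟨η, hη, hsp, hd⟩ := exists_zero_curve_point k hdim hL₀ hs0 (hlocU ▸ hx)
    obtain ⟨j, rfl⟩ := hξsurj η (hlocU ▸ hη) hd
    exact ⟨j, hsp⟩
  have hsep : ∀ i j, ξ i ⤳ ξ j → i = j := fun i j h =>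
    hξinj (VarDim.eq_of_specializes_of_deg_le f h (by rw [hξd, hξd]))
  have hclZ : ∀ j, closure ({ξ j} : Set X) ⊆ Z := fun j =>
    closure_minimal (Set.singleton_subset_iff.2 (hξZ j)) U.isOpen.isClosed_compl
  let Ic : Fin N → X.IdealSheafData := fun j => curveOf (ξ j)
  have hIc : ∀ j, BlowUp.IsEffCartierIdeal (Ic j) := fun j =>
    (S8914.result _).1 (isInvertible_curveOf k hreg hdim (hξd j))
  let G : Fin N → Fin N → ℤ := fun i j =>
    SurfPairing.pair k (PicF.cl (ClSub.idealMod (Ic i))) (PicF.cl (ClSub.idealMod (Ic j)))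
  have hGsymm : ∀ i j, G i j = G j i := fun i j => SurfPairing.pair_comm k _ _
  have hGoff : ∀ i j, i ≠ j → 0 ≤ G i j := fun i j hij => by
    haveI := isIntegral_curveOf (ξ i)
    refine SurfNegDef.pair_ideal_nonneg (k := k) hdim hreg (C := Ic i) (dim_curveOf k (hξd i)) (hIc j) fun h => ?_
    rw [coe_support_curveOf, coe_support_curveOf] at h
    exact hij (hsep j i (specializes_iff_mem_closure.2 (h (subset_closure rfl)))).symm
  -- functions with zeros on curves through a point of each boundary curve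
  choose xc hxc hxclosed using fun j => VarDim.exists_closed_specialization f (ξ j)
  choose ηc hηcF hηc hηcd using fun j => exists_avoiding k hdim (hxclosed j) (Set.finite_range ξ)
    (fun η ⟨i, hi⟩ => hi ▸ hξd i)
  have hηcU : ∀ j, ηc j ∈ U := fun j => by
    by_contra h
    exact hηcF j (hξsurj _ h (hηcd j))
  have hh : ∀ j, ∃ h : Γ(X, U), h ≠ 0 ∧ ηc j ∉ X.basicOpen h := by
    intro j
    obtain ⟨p, hp⟩ := VarDim.exists_fromSpec_eq hU (hηcU j)
    have hpb : p.asIdeal ≠ ⊥ := fun hbot => by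
      obtain ⟨g, hg⟩ := VarDim.exists_fromSpec_eq hU hgU
      have hsp : hU.fromSpec p ⤳ hU.fromSpec g := (VarDim.fromSpec_specializes_iff hU p g).2 ((PrimeSpectrum.asIdeal_le_asIdeal _ _).1 (hbot.le.trans bot_le))
      rw [hp, hg] at hsp
      have h1 := congrArg (VarDim.deg f) (hsp.antisymm (genericPoint_specializes _)).eq
      rw [hηcd, deg_generic k hdim] at h1
      omega
    obtain ⟨h, hhp, hh0⟩ := Submodule.exists_mem_ne_zero_of_ne_bot hpb
    refine ⟨h, hh0, fun hmem => ?_⟩
    rw [← hp] at hmem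
    have h' : p ∈ hU.fromSpec ⁻¹ᵁ X.basicOpen h := hmem
    rw [hU.fromSpec_preimage_basicOpen] at h'
    exact h' hhp
  choose hfun hfun0 hfunη using hh
  -- functions with poles along each set of boundary curves
  let WS : Finset (Fin N) → X.Opens := fun S =>
    ⟨(⋃ l ∈ (Sᶜ : Finset (Fin N)), closure ({ξ l} : Set X))ᶜ,
      ((Sᶜ : Finset (Fin N)).finite_toSet.isClosed_biUnion fun _ _ => isClosed_closure).isOpen_compl⟩
  have hUW : ∀ S, U ≤ WS S := fun S x hx hxl => by
    obtain ⟨l, -, hl⟩ := Set.mem_iUnion₂.1 hxl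
    exact hclZ l hl hx
  have hpole : ∀ S : Finset (Fin N), ∃ φ : Γ(X, U), S.Nonempty → ∀ a : Γ(X, WS S),
      X.presheaf.map (homOfLE (hUW S)).op a ≠ φ := by
    intro S
    by_cases hS : S.Nonempty
    · by_contra hcon
      simp only [not_exists, not_forall, not_not] at hcon
      obtain ⟨j, hj⟩ := hS
      have hjW : ξ j ∈ WS S := fun h => by
        obtain ⟨l, hl, hjl⟩ := Set.mem_iUnion₂.1 h
        exact Finset.mem_compl.1 hl (hsep l j (specializes_iff_mem_closure.2 hjl) ▸ hj)
      exact hξZ j (le_of_surjective_restriction hU hne (hUW S) (fun φ => by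
        obtain ⟨-, a, ha⟩ := hcon φ
        exact ⟨a, ha⟩) hjW)
    · exact ⟨0, fun h => absurd h hS⟩
  choose pole hpole using hpole
  -- the sections
  let fam : Option (Fin N ⊕ Finset (Fin N)) → Γ(X, U) := fun o => o.elim 1 (Sum.elim hfun pole)
  let s₀ := InvX.ofSect s
  have hle : CohB1.genLocus L₀ s₀ ≤ U := hlocU.le
  choose n₀ hn₀ using fun o => AmpleX.exists_extend (M := Coh.structureModule X) QCoh.isQCoh_structureModule hL₀ s₀
    (show Γ(Coh.structureModule X, CohB1.genLocus L₀ s₀) from AModX.resR hle (fam o))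
  let n := Finset.univ.sup n₀
  choose T hT using fun o => hn₀ o n (Finset.le_sup (Finset.mem_univ o))
  let L₁ := CohB1.tensorMod (Coh.structureModule X) (CohB1.tensorPow L₀ n)
  have hL₁ : PicF.IsInvertible L₁ :=
    PicMul.isInvertible_tensor InvX.isInvertible_structureModule (PicMul.isInvertible_tensorPow hL₀ n)
  have hge : U ≤ CohB1.genLocus L₀ s₀ := hlocU.ge
  have hpw : InvX.IsFrame (AmpleX.powElt (AModX.res L₀ (le_top : CohB1.genLocus L₀ s₀ ≤ ⊤) (InvX.one s₀)) n) := by
    refine AmpleX.isFrame_powElt ?_ n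
    rw [show InvX.one s₀ = s from InvX.one_ofSect s]
    exact isFrame_res_of_le_locus (L := L₀) (s := s) le_rfl
  have hUT : ∀ o, AModX.res L₁ (le_top : U ≤ ⊤) (T o) = fam o • AModX.res L₁ (le_top : U ≤ ⊤) (T none) := by
    have key : ∀ o, AModX.res L₁ (le_top : U ≤ ⊤) (T o) = fam o •
        AModX.res L₁ hge (InvX.tmul (show Γ(Coh.structureModule X, CohB1.genLocus L₀ s₀) from (1 : Γ(X, _)))
          (AmpleX.powElt (AModX.res L₀ (le_top : CohB1.genLocus L₀ s₀ ≤ ⊤) (InvX.one s₀)) n)) := by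
      intro o
      rw [← AModX.res_res (M := L₁) (le_top : CohB1.genLocus L₀ s₀ ≤ ⊤) hge, hT o]
      have e1 : (show Γ(Coh.structureModule X, CohB1.genLocus L₀ s₀) from AModX.resR hle (fam o)) =
          AModX.resR hle (fam o) • (show Γ(Coh.structureModule X, CohB1.genLocus L₀ s₀) from (1 : Γ(X, _))) :=
        (mul_one (M := Γ(X, CohB1.genLocus L₀ s₀)) _).symm
      rw [e1, InvX.tmul_smul_left, AModX.res_smul, AModX.resR_resR]
      congr 1
      exact AModX.resR_self (fam o)
    intro o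
    rw [key o, key none]
    simp [fam]
  have hTU : U ≤ locus (T none) := le_locus (by
    have h := (InvX.isFrame_tmul (InvX.isFrame_one (X := X) (CohB1.genLocus L₀ s₀)) hpw).res hge
    rw [← AModX.res_res (M := L₁) (le_top : CohB1.genLocus L₀ s₀ ≤ ⊤) hge, hT none]
    convert h using 3
    exact (AModX.resR (X := X) hle).map_one)
  have hT0 : T none ≠ 0 := Nakai.ne_zero_of_mem_locus (hTU hgU)
  -- remove the common zero curves
  obtain ⟨R⟩ := exists_reduced k hdim hreg ξ hξd Finset.univ hL₁ T none hT0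
  let L' := R.L'
  let t₀ := R.τ' none
  have ht₀U : U ≤ locus t₀ := hTU.trans (R.hle none)
  have ht₀0 : t₀ ≠ 0 := Nakai.ne_zero_of_mem_locus (ht₀U hgU)
  have hdg0 : ∀ l, 0 ≤ dg k (ξ l) L' := fun l => by
    obtain ⟨i, hi⟩ := R.hgen l (Finset.mem_univ l)
    exact dg_nonneg k hdim hreg (hξd l) R.hL' hi
  -- the divisor of the first section
  obtain ⟨R₂⟩ := exists_reduced k hdim hreg ξ hξd Finset.univ R.hL' (fun _ : Unit => t₀) () ht₀0
  have hR₂ : locus (R₂.τ' ()) = ⊤ := by
    refine top_le_iff.1 fun x _ => ?_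
    by_contra hx
    have h0 : R₂.τ' () ≠ 0 := Nakai.ne_zero_of_mem_locus (R₂.hle () (ht₀U hgU))
    obtain ⟨η, hη, -, hd⟩ := exists_zero_curve_point k hdim R₂.hL' h0 hx
    obtain ⟨j, rfl⟩ := hξsurj η (fun h => hη (R₂.hle () (ht₀U h))) hd
    obtain ⟨i, hi⟩ := R₂.hgen j (Finset.mem_univ j)
    exact hη hi
  let m := R₂.a
  have hclm : PicF.cl L' * ∏ j, PicF.cl (ClSub.idealMod (Ic j)) ^ m j = 1 := by
    rw [← R₂.hcl, PicMul.cl_eq_iff.2 (triv_of_frame (locus_eq_top_iff.1 hR₂)), ← PicMul.one_def]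
  have hdgG : ∀ (L : X.Modules) (a : Fin N → ℕ), PicF.IsInvertible L →
      PicF.cl L * ∏ j, PicF.cl (ClSub.idealMod (Ic j)) ^ a j = 1 →
      ∀ l, dg k (ξ l) L = ∑ j, (a j : ℤ) * G l j := by
    intro L a hL h l
    have hl := isInvertible_curveOf k hreg hdim (hξd l)
    have hp := IdealCl.eff_and_cl_prod Finset.univ Ic hIc a
    rw [← hp.2] at h
    have h2 := SurfPairing.pair_inv k hdim.le hl hL (IdealCl.isInvertible_idealMod hp.1) h
    rw [hp.2, pair_prod k hdim hl Ic hIc a] at h2
    rw [dg, ← h2]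
  have hzero : ∀ x, x ∉ locus t₀ → ∃ j, m j ≠ 0 ∧ x ∈ closure ({ξ j} : Set X) := fun x hx => by
    by_contra hcon
    simp only [not_exists, not_and] at hcon
    exact hx (R₂.hsame () x hcon (hR₂.ge trivial))
  -- every set of boundary curves closed under adjacency has positive degree
  have hS : ∀ S : Finset (Fin N), S.Nonempty → (∀ l ∈ S, ∀ j ∉ S, G l j = 0) →
      ∃ l ∈ S, 0 < ∑ j, (m j : ℤ) * G l j := by
    intro S hSne hScl
    by_contra hcon
    simp only [not_exists, not_and, not_lt] at hcon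
    have hdgS : ∀ l ∈ S, dg k (ξ l) L' = 0 := fun l hl =>
      le_antisymm ((hdgG L' m R.hL' hclm l).trans_le (hcon l hl)) (hdg0 l)
    obtain ⟨j₀, hj₀, hmj₀⟩ : ∃ j ∈ S, m j ≠ 0 := by
      by_contra hno
      simp only [not_exists, not_and, not_not] at hno
      have hW : WS S ≤ locus t₀ := fun x hx => by
        by_contra hxt
        obtain ⟨j, hj, hxj⟩ := hzero x hxt
        exact hx (Set.mem_biUnion (Finset.mem_compl.2 fun hjS => hj (hno j hjS)) hxj)
      have hfr := isFrame_res_of_le_locus hW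
      obtain ⟨a, ha⟩ := hfr.exists_coord le_rfl (AModX.res L' (le_top : WS S ≤ ⊤) (R.τ' (some (Sum.inr S))))
      rw [AModX.res_self] at ha
      refine hpole S hSne a ((isFrame_res_of_le_locus ht₀U).coord_unique le_rfl ?_)
      rw [AModX.res_self]
      have h1 := congrArg (AModX.res L' (hUW S)) ha
      rw [AModX.res_smul, AModX.res_res, AModX.res_res] at h1
      exact h1.symm.trans (R.hratio U _ none _ (hUT (some (Sum.inr S))))
    let th := R.τ' (some (Sum.inl j₀))
    have hth : AModX.res L' (le_top : U ≤ ⊤) th = hfun j₀ • AModX.res L' (le_top : U ≤ ⊤) t₀ :=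
      R.hratio U _ none _ (hUT (some (Sum.inl j₀)))
    have hfrU := isFrame_res_of_le_locus ht₀U
    have hηth : ηc j₀ ∉ locus th := fun h =>
      hfunη j₀ ((locus_eq_basicOpen hfrU hth).le ⟨h, hηcU j₀⟩)
    have hth0 : th ≠ 0 := fun h => hfun0 j₀ (hfrU.coord_unique le_rfl (by
      rw [AModX.res_self, ← hth, h, map_zero, zero_smul]))
    obtain ⟨R₃⟩ := exists_reduced k hdim hreg ξ hξd S R.hL' (fun _ : Unit => th) () hth0
    let t₃ := R₃.τ' ()
    have hη₃ : ηc j₀ ∉ locus t₃ := fun h =>
      hηth (R₃.hsame () _ (fun j _ hj => hclZ j hj (hηcU j₀)) h)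
    have hx₃ : xc j₀ ∉ locus t₃ := fun h => hη₃ ((hηc j₀).mem_open (locus t₃).isOpen h)
    have hpos : ∀ l ∈ S, 0 ≤ dg k (ξ l) R₃.L' := fun l hl => by
      obtain ⟨i, hi⟩ := R₃.hgen l hl
      exact dg_nonneg k hdim hreg (hξd l) R₃.hL' hi
    have hpos₀ : 0 < dg k (ξ j₀) R₃.L' := by
      obtain ⟨i, hi⟩ := R₃.hgen j₀ hj₀
      exact dg_pos k hdim hreg (hξd j₀) R₃.hL' hi (hxc j₀) hx₃
    have hdg₃ : ∀ l, dg k (ξ l) R₃.L' = dg k (ξ l) L' - ∑ j, (R₃.a j : ℤ) * G l j := by
      intro l
      have hl := isInvertible_curveOf k hreg hdim (hξd l)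
      have hp := IdealCl.eff_and_cl_prod Finset.univ Ic hIc R₃.a
      rw [dg, dg, R₃.hcl, ← hp.2, SurfPairing.pair_mul k hdim.le hl R.hL' (IdealCl.isInvertible_idealMod hp.1),
        hp.2, pair_prod k hdim hl Ic hIc]
      ring
    have hsum : ∑ l ∈ S, (m l : ℤ) * dg k (ξ l) R₃.L' = 0 := by
      have h1 : ∀ j, ∑ l ∈ S, (m l : ℤ) * ((R₃.a j : ℤ) * G l j) = 0 := by
        intro j
        by_cases hj : j ∈ S
        · have h2 : ∑ l ∈ S, (m l : ℤ) * G j l = ∑ l, (m l : ℤ) * G j l :=
            Finset.sum_subset (Finset.subset_univ S) fun l _ hl => by rw [hScl j hj l hl, mul_zero]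
          rw [← hdgG L' m R.hL' hclm j, hdgS j hj] at h2
          calc ∑ l ∈ S, (m l : ℤ) * ((R₃.a j : ℤ) * G l j)
              = (R₃.a j : ℤ) * ∑ l ∈ S, (m l : ℤ) * G j l := by
                rw [Finset.mul_sum]
                exact Finset.sum_congr rfl fun l _ => by rw [hGsymm l j]; ring
            _ = 0 := by rw [h2, mul_zero]
        · simp [R₃.ha j hj]
      calc ∑ l ∈ S, (m l : ℤ) * dg k (ξ l) R₃.L'
          = ∑ l ∈ S, -(∑ j, (m l : ℤ) * ((R₃.a j : ℤ) * G l j)) :=
            Finset.sum_congr rfl fun l hl => by rw [hdg₃ l, hdgS l hl, zero_sub, mul_neg, Finset.mul_sum]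
        _ = 0 := by rw [Finset.sum_neg_distrib, Finset.sum_comm, Finset.sum_eq_zero fun j _ => h1 j, neg_zero]
    have h3 : (m j₀ : ℤ) * dg k (ξ j₀) R₃.L' ≤ 0 :=
      hsum ▸ Finset.single_le_sum (f := fun l => (m l : ℤ) * dg k (ξ l) R₃.L')
        (fun l hl => mul_nonneg (Int.natCast_nonneg _) (hpos l hl)) hj₀
    exact absurd h3 (not_le.2 (mul_pos (by exact_mod_cast Nat.pos_of_ne_zero hmj₀) hpos₀))
  obtain ⟨d, hd0, hdpos⟩ := exists_pos G hGoff m
    (fun l => (hdgG L' m R.hL' hclm l) ▸ hdg0 l) hS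
  -- the divisor
  let D := ∏ j, Ic j ^ d j
  have hD := (IdealCl.eff_and_cl_prod Finset.univ Ic hIc d).1
  have hDsupp : (D.support : Set X) = Z := by
    have key : ∀ s : Finset (Fin N), ((∏ j ∈ s, Ic j ^ d j).support : Set X) = ⋃ j ∈ s, closure ({ξ j} : Set X) := by
      intro s
      induction s using Finset.induction with
      | empty => simp
      | insert i s hi ih =>
        rw [Finset.prod_insert hi, Finset.set_biUnion_insert, ← ih, ← coe_support_curveOf (ξ i),
          Scheme.IdealSheafData.support_mul, Scheme.IdealSheafData.support_pow _ _ (hd0 i).ne']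
        rfl
    rw [key]
    refine Set.Subset.antisymm (Set.iUnion₂_subset fun j _ => hclZ j) fun x hx => ?_
    obtain ⟨j, hj⟩ := hcov x hx
    exact Set.mem_biUnion (Finset.mem_univ j) (specializes_iff_mem_closure.1 hj)
  refine ⟨D, hD, hDsupp, fun L hL hLD => ?_⟩
  obtain ⟨σ, hσ0, hσ⟩ := AVAmple.exists_divisor_section_ne_zero D hD hL hLD
  have hσU : ∀ x, x ∈ locus σ ↔ x ∈ U := fun x => by
    rw [hσ x]
    show ¬ x ∈ (D.support : Set X) ↔ _
    rw [hDsupp, Set.mem_compl_iff, not_not]
    rfl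
  have hclD : PicF.cl L * ∏ j, PicF.cl (ClSub.idealMod (Ic j)) ^ d j = 1 := by
    rw [← (IdealCl.eff_and_cl_prod Finset.univ Ic hIc d).2]
    exact (CurveOnSurf.isInvertible_of_inverse (IdealCl.isInvertible_idealMod hD) hLD).2
  obtain ⟨z, hz⟩ : ∃ z, z ∉ U := by
    by_contra hall
    simp only [not_exists, not_not] at hall
    exact not_subset_affine k (𝟙 X) (by rw [hdim]; decide) hU fun x _ => hall x
  refine Nakai.isAmple_of_section k hdim hL hσ0 ⟨z, fun h => hz ((hσU z).1 h)⟩ fun C hC hCd => ?_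
  haveI := hC
  let i := C.subschemeι
  let η := i (genericPoint C.subscheme)
  have hCdim : topologicalKrullDim C.subscheme = 1 := by
    rw [IsHomeomorph.topologicalKrullDim_eq _
      ((i.isEmbedding.toHomeomorph).trans (Homeomorph.setCongr C.range_subschemeι)).isHomeomorph, hCd]
  have hη : VarDim.deg f η = 1 := by
    have h1 : (VarDim.deg (i ≫ f) (genericPoint C.subscheme) : WithBot ℕ∞) = 1 :=
      (VarDim.topologicalKrullDim_eq_deg_genericPoint (i ≫ f)).symm.trans hCdim
    have h3 := VarDim.tdeg_comp i f (genericPoint C.subscheme)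
    rw [VarDim.rdeg_preimmersion, add_zero, ← VarDim.deg_eq_tdeg, ← VarDim.deg_eq_tdeg] at h3
    have h1' : VarDim.deg (i ≫ f) (genericPoint C.subscheme) = 1 := by exact_mod_cast h1
    rw [← h1']
    exact_mod_cast h3.symm
  have hCη : C = curveOf η := by
    haveI := isIntegral_curveOf η
    refine (SurfNegDef.eq_of_support_subset k (dim_curveOf k hη) hCd ?_).symm
    rw [coe_support_curveOf]
    refine closure_minimal (Set.singleton_subset_iff.2 ?_) C.support.isClosed
    rw [← C.range_subschemeι]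
    exact ⟨_, rfl⟩
  have hpos : 0 < dg k η L := by
    by_cases hηU : η ∈ U
    · obtain ⟨x, ⟨c, rfl⟩, hx⟩ := Set.not_subset.1 (not_subset_affine k i (by rw [hCdim]; decide) hU)
      exact dg_pos k hdim hreg hη hL ((hσU η).2 hηU) ((genericPoint_specializes c).map i.continuous)
        fun h => hx ((hσU _).1 h)
    · obtain ⟨j, hj⟩ := hξsurj η hηU hη
      rw [← hj, hdgG L d hL hclD j]
      exact hdpos j
  rw [dg_eq_deg k hdim hreg hη hL] at hpos
  clear_value η
  subst hCη
  exact hpos

end Groth.Agent.AffCompl
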