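import Groth.Agent.ZeroSchX.Basic
import Groth.Agent.H26.InterDiv
import Groth.Agent.Lib.CurveAmple

/-!
# The ideal of zeros of a nonzero section of an invertible module
-/

set_option autoImplicit false
set_option linter.style.haveILetI false
set_option backward.isDefEq.respectTransparency false
set_option backward.isDefEq.respectTransparency.types false
set_option maxHeartbeats 1000000

universe u

open CategoryTheory CategoryTheory.Limits AlgebraicGeometry TopologicalSpace Opposite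
open Groth.Agent.H23 Groth.Agent.H23.TrivBasic

noncomputable section

namespace Groth.Agent.AffCompl

attribute [local instance] PicMul.clMonoid

variable {X : Scheme.{u}}

/-- A frame of the structure module is a unit. -/
theorem isUnit_of_isFrame {U : X.Opens} {u : Γ(X, U)}
    (hu : InvX.IsFrame (M := Coh.structureModule X) (U := U) (OmegaSh.strSect X U u)) : IsUnit u := by
  obtain ⟨r, hr⟩ := hu.exists_coord le_rfl (OmegaSh.strSect X U 1)
  rw [AModX.res_self] at hr
  have h : r * u = 1 := (congrArg (OmegaSh.fnSect X U) hr).symm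
  exact IsUnit.of_mul_eq_one_right r h

/-- The zeros of a nonzero section form an effective Cartier divisor of the class of the module. -/
theorem exists_ideal_of_section [IsIntegral X] {L M : X.Modules} (hL : PicF.IsInvertible L) (hM : PicF.IsInvertible M)
    (hLM : ClSub.IsInverseOf L M) {s : Γ(L, ⊤)} (hs : s ≠ 0) :
    ∃ I : X.IdealSheafData, BlowUp.IsEffCartierIdeal I ∧ (I.support : Set X) = (locus s : Set X)ᶜ ∧
      ClSub.IsInverseOf L (ClSub.idealMod I) := by
  obtain ⟨w⟩ := hLM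
  obtain ⟨cm⟩ := PicMul.comm M L
  let I := PicF2.zeroScheme L (InvX.ofSect s)
  let σ : CohB1.tensorMod M L ≅ Coh.structureModule X := cm ≪≫ w
  let φ : M ⟶ Coh.structureModule X := CurveAmple.mulBy M s ≫ σ.hom
  have hsv : ∀ U : X.Opens, ZeroSchX.sv (InvX.ofSect s) U = AModX.res L (le_top : U ≤ ⊤) s := fun U => by
    rw [← ZeroSchX.res_sv (InvX.ofSect s) (le_top : U ≤ ⊤),
      show ZeroSchX.sv (InvX.ofSect s) ⊤ = s from InvX.one_ofSect s]
    rfl
  -- frames
  have key : ∀ x : X, ∃ (V : X.affineOpens) (_ : x ∈ V.1) (f : Γ(M, V.1)) (c t : Γ(X, V.1)),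
      InvX.IsFrame f ∧ φ.app V.1 f = OmegaSh.strSect X V.1 t ∧ I.ideal V = Ideal.span {t} ∧
      t ∈ nonZeroDivisors Γ(X, V.1) ∧ (locus s ⊓ V.1 = X.basicOpen c) ∧ I.ideal V = Ideal.span {c} := by
    intro x
    obtain ⟨U₁, hx₁, a₀, ha₀⟩ := InvX.exists_frame hL x
    obtain ⟨U₂, hx₂, f₀, hf₀⟩ := InvX.exists_frame hM x
    obtain ⟨V, hV, hxV, hVU⟩ := exists_isAffineOpen_mem_and_subset (x := x) (U := U₁ ⊓ U₂) ⟨hx₁, hx₂⟩
    let a := AModX.res L (show V ≤ U₁ from fun y hy => (hVU hy).1) a₀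
    let f := AModX.res M (show V ≤ U₂ from fun y hy => (hVU hy).2) f₀
    have ha : InvX.IsFrame a := ha₀.res _
    have hf : InvX.IsFrame f := hf₀.res _
    obtain ⟨c, hc⟩ := ha.exists_coord le_rfl (AModX.res L (le_top : V ≤ ⊤) s)
    rw [AModX.res_self] at hc
    let u : Γ(X, V) := OmegaSh.fnSect X V (σ.hom.app V (InvX.tmul f a))
    have hu : IsUnit u := isUnit_of_isFrame ((InvX.isFrame_tmul hf ha).map_iso σ)
    have hI : I.ideal ⟨V, hV⟩ = Ideal.span {c} := by
      rw [ZeroSchX.ideal_zeroScheme hL]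
      exact ZeroSchX.zeroIdealOn_eq_span _ ha ((hsv V).trans hc)
    have hφ : φ.app V f = OmegaSh.strSect X V (c * u) := by
      show σ.hom.app V ((CurveAmple.mulBy M s).app V f) = _
      rw [CurveAmple.mulBy_app, hc, InvX.tmul_smul_right, Scheme.Modules.Hom.app_smul]
      rfl
    have hloc := locus_eq_basicOpen ha hc
    haveI : Nonempty V := ⟨⟨x, hxV⟩⟩
    have hc0 : c ≠ 0 := fun h => by
      subst h
      rw [Scheme.basicOpen_zero] at hloc
      obtain ⟨z, hz⟩ := (Opens.ne_bot_iff_nonempty _).1 (locus_ne_bot hL hs)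
      have hg : genericPoint X ∈ locus s ⊓ V :=
        ⟨(genericPoint_specializes z).mem_open (locus s).isOpen hz,
          (genericPoint_specializes x).mem_open V.isOpen hxV⟩
      exact (hloc.le hg).elim
    refine ⟨⟨V, hV⟩, hxV, f, c, c * u, hf, hφ, ?_, mem_nonZeroDivisors_of_ne_zero (mul_ne_zero hc0 hu.ne_zero),
      hloc, hI⟩
    rw [hI, Ideal.span_singleton_mul_right_unit hu]
  have hI : BlowUp.IsEffCartierIdeal I := fun x => by
    obtain ⟨V, hxV, -, -, t, -, -, ht, hn, -, -⟩ := key x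
    exact ⟨V, hxV, t, hn, ht⟩
  refine ⟨I, hI, ?_, ?_⟩
  · ext x
    obtain ⟨V, hxV, -, c, -, -, -, -, -, hloc, hc⟩ := key x
    have h1 : x ∈ (I.support : Set X) ∩ V.1 ↔ x ∈ X.zeroLocus (U := V.1) (I.ideal V) ∩ V.1 := by
      rw [I.coe_support_inter]
    rw [hc, Scheme.zeroLocus_span, Scheme.zeroLocus_singleton, ← hloc] at h1
    constructor
    · intro hx hxs
      exact (h1.1 ⟨hx, hxV⟩).1 ⟨hxs, hxV⟩
    · intro hx
      exact (h1.2 ⟨fun h => hx h.1, hxV⟩).1
  · -- the ideal is the inverse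
    have hz : φ ≫ ClSub.toSubscheme I = 0 := by
      choose V hxV f c t hf hφ ht hn hloc hc using key
      refine InvX.hom_ext_of_frames (fun x => (V x).1) (fun x => ⟨x, hxV x⟩) f hf fun x => ?_
      show (ClSub.toSubscheme I).app (V x).1 (φ.app (V x).1 (f x)) = 0
      rw [hφ, OmegaSh.toSubscheme_app_strSect]
      have : t x ∈ I.ideal (V x) := ht x ▸ Ideal.mem_span_singleton_self _
      rwa [← I.ker_subschemeι_app, RingHom.mem_ker] at this
    let ψ : M ⟶ ClSub.idealMod I := kernel.lift _ φ hz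
    have hψ : ψ ≫ ClSub.idealModι I = φ := kernel.lift_ι _ _ _
    suffices hiso : IsIso ψ by
      refine PicMul.cl_eq_iff.1 ?_
      rw [PicMul.cl_tensor, ← PicMul.cl_eq_iff.2 ⟨asIso ψ⟩, ← PicMul.cl_tensor]
      exact PicMul.cl_eq_iff.2 ⟨w⟩
    refine DivX.isIso_of_frames ψ fun x => ?_
    obtain ⟨V, hxV, f, -, t, hf, hφ, ht, hn, -, -⟩ := key x
    obtain ⟨W₀, hxW₀, k₀, hk₀⟩ := InvX.exists_frame (H26.IdealCl.isInvertible_idealMod hI) x
    obtain ⟨W, hW, hxW, hWle⟩ := exists_isAffineOpen_mem_and_subset (show x ∈ V.1 ⊓ W₀ from ⟨hxV, hxW₀⟩)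
    have hWV : W ≤ V.1 := hWle.trans inf_le_left
    let kk := AModX.res (ClSub.idealMod I) (hWle.trans inf_le_right) k₀
    have hk : InvX.IsFrame kk := hk₀.res _
    refine ⟨W, hxW, AModX.res _ hWV f, hf.res _, ?_⟩
    let k' := ψ.app W (AModX.res _ hWV f)
    show InvX.IsFrame k'
    have hk' : OmegaSh.idealSect I W k' = X.presheaf.map (homOfLE hWV).op t := by
      rw [OmegaSh.idealSect_apply]
      show OmegaSh.fnSect X W ((ψ ≫ ClSub.idealModι I).app W (AModX.res _ hWV f)) = _
      rw [hψ, AModX.app_res, hφ]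
      rfl
    have hspan : I.ideal ⟨W, hW⟩ = Ideal.span {X.presheaf.map (homOfLE hWV).op t} := by
      rw [← I.map_ideal (U := ⟨W, hW⟩) (V := V) hWV, ht, Ideal.map_span, Set.image_singleton]
      rfl
    obtain ⟨b, hb⟩ := hk.exists_coord le_rfl k'
    rw [AModX.res_self] at hb
    obtain ⟨a, ha⟩ := Ideal.mem_span_singleton'.1 (hspan ▸ OmegaLib.idealSect_mem I ⟨W, hW⟩ kk)
    have hak : kk = a • k' := OmegaLib.idealSect_injective I W (by
      rw [OmegaLib.idealSect_smul, hk', ha])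
    have hab : a * b = 1 := by
      have h1 : (1 : Γ(X, W)) • kk = (a * b) • kk := by rw [one_smul, mul_smul, ← hb, ← hak]
      refine (hk.coord_unique (le_refl W) ?_).symm
      rwa [AModX.res_self]
    rw [hb]
    exact hk.isUnit_smul (IsUnit.of_mul_eq_one_right a hab)

end Groth.Agent.AffCompl
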